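import Mathlib
import Groth.Agent.Lib.Helper6.DimLemmas
import Groth.Agent.Lib.Helper1.RegFlat

namespace Groth.Agent.H8.J2

universe u

open IsLocalRing

theorem height_add_ringKrullDim_quotient_le {R : Type u} [CommRing R] (I : Ideal R) [hI : I.IsPrime] :
    (I.height : WithBot ℕ∞) + ringKrullDim (R ⧸ I) ≤ ringKrullDim R := by
  have h1 := Groth.Agent.H6.Dim.ringKrullDim_quotient_eq_coheight (⟨I, hI⟩ : PrimeSpectrum R)
  change ringKrullDim (R ⧸ I) = _ at h1
  have h2 : I.height = Order.height (⟨I, hI⟩ : PrimeSpectrum R) :=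
    PrimeSpectrum.height_eq_orderHeight ⟨I, hI⟩
  haveI : Nonempty (PrimeSpectrum R) := ⟨⟨I, hI⟩⟩
  rw [h1, h2, ringKrullDim,
    Order.krullDim_eq_iSup_height_add_coheight_of_nonempty]
  rw [← WithBot.coe_add, WithBot.coe_le_coe]
  exact le_iSup (fun a : PrimeSpectrum R => Order.height a + Order.coheight a) ⟨I, hI⟩

/-- Key lemma of Nagata's criterion: if `B_P` is regular and `B_Q/PB_Q` is regular for all `Q ⊇ P`
in a basic open `D(f)`, `f ∉ P`, then `B_Q` is regular for all `Q ⊇ P` in some `D(f')`, `f' ∉ P`. -/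
theorem exists_regular_nhds {B : Type u} [CommRing B] [IsNoetherianRing B]
    (P : Ideal B) [P.IsPrime] [IsRegularLocalRing (Localization.AtPrime P)]
    (f : B) (hfP : f ∉ P)
    (hreg : ∀ (Q : Ideal B) [Q.IsPrime], P ≤ Q → f ∉ Q →
      IsRegularLocalRing (Localization.AtPrime Q ⧸ P.map (algebraMap B (Localization.AtPrime Q)))) :
    ∃ f' : B, f' ∉ P ∧ ∀ (Q : Ideal B) [Q.IsPrime], P ≤ Q → f' ∉ Q →
      IsRegularLocalRing (Localization.AtPrime Q) := by
  classical
  set BP := Localization.AtPrime P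
  set r := (maximalIdeal BP).spanFinrank with hr
  have hrdim : (r : WithBot ℕ∞) = (P.height : WithBot ℕ∞) := by
    have h1 : ((maximalIdeal BP).spanFinrank : WithBot ℕ∞) = ringKrullDim BP :=
      IsRegularLocalRing.spanFinrank_maximalIdeal
    rw [hr, h1, IsLocalization.AtPrime.ringKrullDim_eq_height P BP]
  have hmP : maximalIdeal BP = P.map (algebraMap B BP) :=
    (IsLocalization.AtPrime.map_eq_maximalIdeal P BP).symm
  -- generators of the maximal ideal of `B_P`
  obtain ⟨s, hscard, hsspan⟩ :=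
    Submodule.FG.exists_span_finset_card_eq_spanFinrank
      (IsNoetherian.noetherian (maximalIdeal BP))
  -- numerators
  have hnum : ∀ y : BP, ∃ a : B, ∃ t : P.primeCompl, y * algebraMap B BP t = algebraMap B BP a := by
    intro y
    obtain ⟨⟨a, t⟩, h⟩ := IsLocalization.surj P.primeCompl y
    exact ⟨a, t, h⟩
  choose a t hat using hnum
  set J : Ideal B := Ideal.span ((s.image a : Finset B) : Set B) with hJ
  have haP : ∀ y ∈ s, a y ∈ P := by
    intro y hy
    have hy' : y ∈ maximalIdeal BP := by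
      rw [← hsspan]; exact Submodule.subset_span hy
    have h1 : algebraMap B BP (a y) ∈ maximalIdeal BP := by
      rw [← hat y]; exact Ideal.mul_mem_right _ _ hy'
    have h2 : a y ∈ (maximalIdeal BP).comap (algebraMap B BP) := h1
    rwa [← Ideal.under_def, IsLocalization.AtPrime.under_maximalIdeal BP P] at h2
  have hJP : J ≤ P := by
    rw [hJ, Ideal.span_le]
    intro x hx
    rw [Finset.mem_coe, Finset.mem_image] at hx
    obtain ⟨y, hy, rfl⟩ := hx
    exact haP y hy
  have hJrank : J.spanFinrank ≤ r := by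
    rw [hJ]
    refine (Submodule.spanFinrank_span_le_ncard_of_finite (Finset.finite_toSet _)).trans ?_
    rw [Set.ncard_coe_finset, hr, ← hscard]
    exact Finset.card_image_le
  have hJmap : J.map (algebraMap B BP) = maximalIdeal BP := by
    apply le_antisymm
    · rw [hmP]; exact Ideal.map_mono hJP
    · rw [← hsspan, Ideal.span_le]
      intro y hy
      have hu : IsUnit (algebraMap B BP (t y)) := IsLocalization.map_units BP (t y)
      have h1 : algebraMap B BP (a y) ∈ J.map (algebraMap B BP) :=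
        Ideal.mem_map_of_mem _ (Ideal.subset_span (Finset.mem_coe.mpr (Finset.mem_image_of_mem a hy)))
      have h2 : y = algebraMap B BP (a y) * ↑hu.unit⁻¹ := by
        rw [← hat y, mul_assoc, IsUnit.mul_val_inv, mul_one]
      rw [SetLike.mem_coe, h2]
      exact Ideal.mul_mem_right _ _ h1
  -- an element `s₀ ∉ P` with `s₀ P ⊆ J`
  have hw : ∀ p : B, ∃ w : B, p ∈ P → (w ∉ P ∧ w * p ∈ J) := by
    intro p
    by_cases hp : p ∈ P
    · have h1 : algebraMap B BP p ∈ J.map (algebraMap B BP) := by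
        rw [hJmap, hmP]; exact Ideal.mem_map_of_mem _ hp
      rw [IsLocalization.mem_map_algebraMap_iff P.primeCompl] at h1
      obtain ⟨⟨c, u⟩, hcu⟩ := h1
      rw [← map_mul, IsLocalization.eq_iff_exists P.primeCompl] at hcu
      obtain ⟨v, hv⟩ := hcu
      refine ⟨v * u, fun _ => ⟨?_, ?_⟩⟩
      · exact (v * u).2
      · have : (v : B) * (u : B) * p = v * c := by
          rw [← hv]; ring
        rw [this]
        exact Ideal.mul_mem_left _ _ c.2
    · exact ⟨1, fun h => absurd h hp⟩
  choose w hw using hw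
  obtain ⟨T, hT⟩ := (IsNoetherian.noetherian P : P.FG)
  set s₀ : B := ∏ p ∈ T, w p with hs₀
  have hTP : ∀ p ∈ T, p ∈ P := fun p hp => hT ▸ Submodule.subset_span hp
  have hs₀P : s₀ ∉ P := by
    rw [hs₀]
    intro h
    obtain ⟨p, hpT, hp⟩ := (Ideal.IsPrime.prod_mem_iff (p := P)).mp h
    exact (hw p (hTP p hpT)).1 hp
  have hs₀J : ∀ p ∈ P, s₀ * p ∈ J := by
    intro p hp
    rw [← hT] at hp
    refine Submodule.span_induction ?_ ?_ ?_ ?_ hp
    · intro x hx
      have hx' : x ∈ T := hx
      rw [hs₀, ← Finset.mul_prod_erase T w hx', mul_assoc, mul_comm (∏ p ∈ T.erase x, w p), ← mul_assoc]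
      exact Ideal.mul_mem_right _ _ (hw x (hTP x hx')).2
    · simp
    · intro x y _ _ hx hy
      rw [mul_add]; exact Ideal.add_mem _ hx hy
    · intro c x _ hx
      rw [smul_eq_mul, mul_left_comm]; exact Ideal.mul_mem_left _ _ hx
  refine ⟨f * s₀, fun h => ?_, ?_⟩
  · rcases Ideal.IsPrime.mem_or_mem inferInstance h with h | h
    · exact hfP h
    · exact hs₀P h
  intro Q _ hPQ hfQ
  have hfQ' : f ∉ Q := fun h => hfQ (Ideal.mul_mem_right _ _ h)
  have hsQ : s₀ ∉ Q := fun h => hfQ (Ideal.mul_mem_left _ _ h)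
  set R := Localization.AtPrime Q
  set I : Ideal R := P.map (algebraMap B R) with hI
  haveI hRI : IsRegularLocalRing (R ⧸ I) := hreg Q hPQ hfQ'
  have hdisj : Disjoint (Q.primeCompl : Set B) (P : Set B) := by
    rw [Set.disjoint_left]
    intro x hx hxP
    exact hx (hPQ hxP)
  haveI hIprime : I.IsPrime := IsLocalization.isPrime_of_isPrime_disjoint Q.primeCompl R P ‹_› hdisj
  have hIJ : I = J.map (algebraMap B R) := by
    apply le_antisymm
    · rw [hI, Ideal.map_le_iff_le_comap]
      intro p hp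
      rw [Ideal.mem_comap]
      have hu : IsUnit (algebraMap B R s₀) := IsLocalization.map_units R (⟨s₀, hsQ⟩ : Q.primeCompl)
      have h1 : algebraMap B R (s₀ * p) ∈ J.map (algebraMap B R) :=
        Ideal.mem_map_of_mem _ (hs₀J p hp)
      have h2 : algebraMap B R p = ↑hu.unit⁻¹ * algebraMap B R (s₀ * p) := by
        rw [map_mul, ← mul_assoc, IsUnit.val_inv_mul, one_mul]
      rw [h2]
      exact Ideal.mul_mem_left _ _ h1
    · exact Ideal.map_mono hJP
  have hIrank : I.spanFinrank ≤ r := by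
    rw [hIJ]
    exact (Ideal.spanFinrank_map_le_of_fg _ (IsNoetherian.noetherian J)).trans hJrank
  have hIle : I ≤ maximalIdeal R := IsLocalRing.le_maximalIdeal hIprime.ne_top
  have h1 := Groth.Agent.H1.RegFlat.spanFinrank_le_add I (maximalIdeal R) hIle
  have hmq : (maximalIdeal R).map (Ideal.Quotient.mk I) = maximalIdeal (R ⧸ I) := by
    apply IsLocalRing.eq_maximalIdeal
    exact Ideal.IsMaximal.map_of_surjective_of_ker_le Ideal.Quotient.mk_surjective
      (by rw [Ideal.mk_ker]; exact hIle)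
  rw [hmq] at h1
  have hd : ((maximalIdeal (R ⧸ I)).spanFinrank : WithBot ℕ∞) = ringKrullDim (R ⧸ I) :=
    IsRegularLocalRing.spanFinrank_maximalIdeal
  have hht : I.height = P.height :=
    IsLocalization.height_map_of_disjoint Q.primeCompl P hdisj
  apply IsRegularLocalRing.of_spanFinrank_maximalIdeal_le
  calc ((maximalIdeal R).spanFinrank : WithBot ℕ∞)
      ≤ ((I.spanFinrank + (maximalIdeal (R ⧸ I)).spanFinrank : ℕ) : WithBot ℕ∞) := by
        exact_mod_cast h1
    _ = (I.spanFinrank : WithBot ℕ∞) + ((maximalIdeal (R ⧸ I)).spanFinrank : WithBot ℕ∞) := by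
        push_cast; rfl
    _ ≤ (r : WithBot ℕ∞) + ringKrullDim (R ⧸ I) := by
        rw [hd]
        gcongr
    _ = (I.height : WithBot ℕ∞) + ringKrullDim (R ⧸ I) := by rw [hrdim, hht]
    _ ≤ ringKrullDim R := height_add_ringKrullDim_quotient_le I

end Groth.Agent.H8.J2
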