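import Mathlib

namespace Groth.Agent.H8.J2

universe u

open PrimeSpectrum

/-- Nagata's topological criterion for openness in the spectrum of a Noetherian ring. -/
theorem isOpen_of_nagata {B : Type u} [CommRing B] [IsNoetherianRing B]
    (U : Set (PrimeSpectrum B))
    (hgen : ∀ x y : PrimeSpectrum B, x.asIdeal ≤ y.asIdeal → y ∈ U → x ∈ U)
    (hloc : ∀ x ∈ U, ∃ f : B, f ∉ x.asIdeal ∧
      ∀ y : PrimeSpectrum B, x.asIdeal ≤ y.asIdeal → f ∉ y.asIdeal → y ∈ U) :
    IsOpen U := by
  classical
  rw [← isClosed_compl_iff]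
  set Z : Set (PrimeSpectrum B) := Uᶜ with hZ
  set I : Ideal B := vanishingIdeal Z with hI
  suffices h : zeroLocus (I : Set B) ⊆ Z by
    have : Z = zeroLocus (I : Set B) :=
      Set.Subset.antisymm (subset_zeroLocus_vanishingIdeal Z) h
    rw [this]
    exact isClosed_zeroLocus _
  intro y hy
  rw [mem_zeroLocus, SetLike.coe_subset_coe] at hy
  obtain ⟨P, hPmin, hPy⟩ := Ideal.exists_minimalPrimes_le hy
  haveI hPp : P.IsPrime := hPmin.1.1
  -- the point `P` lies in `Z`
  have hPZ : (⟨P, hPp⟩ : PrimeSpectrum B) ∈ Z := by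
    by_contra hPU
    rw [hZ, Set.mem_compl_iff, not_not] at hPU
    obtain ⟨f, hfP, hf⟩ := hloc _ hPU
    have hfin : (I.minimalPrimes).Finite := Ideal.finite_minimalPrimes_of_isNoetherianRing B I
    set S : Finset (Ideal B) := hfin.toFinset.erase P with hS
    have hnle : ¬ (∏ Q ∈ S, Q) ≤ P := by
      intro hle
      obtain ⟨Q, hQS, hQP⟩ := (Ideal.IsPrime.prod_le hPp).mp hle
      rw [hS, Finset.mem_erase, Set.Finite.mem_toFinset] at hQS
      exact hQS.1 (le_antisymm hQP (hPmin.2 hQS.2.1 hQP))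
    obtain ⟨g, hgS, hgP⟩ := SetLike.not_le_iff_exists.mp hnle
    have hfg : f * g ∈ I := by
      rw [hI, mem_vanishingIdeal]
      intro z hz
      have hIz : I ≤ z.asIdeal := by
        rw [hI]
        intro a ha
        exact (mem_vanishingIdeal _ _).mp ha z hz
      obtain ⟨Q, hQmin, hQz⟩ := Ideal.exists_minimalPrimes_le hIz
      by_cases hQP : Q = P
      · subst hQP
        have : f ∈ z.asIdeal := by
          by_contra hfz
          exact hz (hf z hQz hfz)
        exact Ideal.mul_mem_right _ _ this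
      · have hQS : Q ∈ S := by
          rw [hS, Finset.mem_erase, Set.Finite.mem_toFinset]
          exact ⟨hQP, hQmin⟩
        have : g ∈ Q := (Ideal.prod_le_inf.trans (Finset.inf_le hQS)) hgS
        exact Ideal.mul_mem_left _ _ (hQz this)
    rcases hPp.mem_or_mem (hPmin.1.2 hfg) with h | h
    · exact hfP h
    · exact hgP h
  -- `Z` is stable under specialization
  intro hyU
  exact hPZ (hgen ⟨P, hPp⟩ y hPy hyU)

end Groth.Agent.H8.J2
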