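import Mathlib
import Groth.Prelude.Def_EGA4b
import Groth.Agent.Lib.Helper1.NormFlat
import Groth.Agent.Lib.Helper1.RegLoc
import Groth.Agent.Lib.Helper8.J2.J1
import Groth.Agent.Lib.Helper8.J2.J2

namespace Groth.Agent.H8.J2

universe u

open IsLocalRing

/-- `C` is regular at all primes of the basic open `D(g)`. -/
def RegOn (C : Type u) [CommRing C] (g : C) : Prop :=
  ∀ (Q : Ideal C) [Q.IsPrime], g ∉ Q → IsRegularLocalRing (Localization.AtPrime Q)

section quot
variable {B : Type u} [CommRing B] (P Q : Ideal B) [Q.IsPrime] (hPQ : P ≤ Q)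

include hPQ in
theorem algebraMapSubmonoid_primeCompl_eq [(Q.map (Ideal.Quotient.mk P)).IsPrime] :
    Algebra.algebraMapSubmonoid (B ⧸ P) Q.primeCompl = (Q.map (Ideal.Quotient.mk P)).primeCompl := by
  ext x
  obtain ⟨x, rfl⟩ := Ideal.Quotient.mk_surjective x
  constructor
  · rintro ⟨y, hy, hyx⟩
    change Ideal.Quotient.mk P y = Ideal.Quotient.mk P x at hyx
    rw [← hyx]
    show ¬ (Ideal.Quotient.mk P y ∈ Ideal.map (Ideal.Quotient.mk P) Q)
    rw [Ideal.mem_quotient_iff_mem hPQ]
    exact hy
  · intro hx
    have hx' : Ideal.Quotient.mk P x ∉ Q.map (Ideal.Quotient.mk P) := hx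
    rw [Ideal.mem_quotient_iff_mem hPQ] at hx'
    exact ⟨x, hx', rfl⟩

include hPQ in
theorem isPrime_map_mk : (Q.map (Ideal.Quotient.mk P)).IsPrime :=
  Ideal.map_isPrime_of_surjective Ideal.Quotient.mk_surjective (by rwa [Ideal.mk_ker])

/-- `(B/P)_{Q/P} ≃ B_Q / P B_Q`. -/
noncomputable def quotLocEquiv [(Q.map (Ideal.Quotient.mk P)).IsPrime] (hPQ : P ≤ Q) :
    Localization.AtPrime (Q.map (Ideal.Quotient.mk P)) ≃+*
      (Localization.AtPrime Q ⧸ P.map (algebraMap B (Localization.AtPrime Q))) := by
  haveI h1 := Groth.Agent.H1.NormFlat.isLocalization_quotient Q.primeCompl (Localization.AtPrime Q) P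
  rw [algebraMapSubmonoid_primeCompl_eq P Q hPQ] at h1
  exact (IsLocalization.algEquiv (Q.map (Ideal.Quotient.mk P)).primeCompl _ _).toRingEquiv

end quot

/-- Localization of `B` at a generization of `y` is a localization of `B_y`. -/
theorem isRegularLocalRing_of_le {B : Type u} [CommRing B] (x y : Ideal B) [x.IsPrime] [y.IsPrime]
    (hxy : x ≤ y) [IsRegularLocalRing (Localization.AtPrime y)] :
    IsRegularLocalRing (Localization.AtPrime x) := by
  set R := Localization.AtPrime y
  have hdisj : Disjoint (y.primeCompl : Set B) (x : Set B) := by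
    rw [Set.disjoint_left]
    intro a ha hax
    exact ha (hxy hax)
  let x' : Ideal R := x.map (algebraMap B R)
  haveI hx' : x'.IsPrime := IsLocalization.isPrime_of_isPrime_disjoint y.primeCompl R x ‹_› hdisj
  have hx'c : x'.comap (algebraMap B R) = x :=
    IsLocalization.under_map_of_isPrime_disjoint y.primeCompl R ‹_› hdisj
  haveI : IsRegularLocalRing (Localization.AtPrime x') :=
    Groth.Agent.H1.Reg.isRegularLocalRing_localization R x'
  have h2 : IsLocalization.AtPrime (Localization.AtPrime x') x := by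
    have := IsLocalization.isLocalization_isLocalization_atPrime_isLocalization
      y.primeCompl (Localization.AtPrime x') x'
    have hpc : (x'.comap (algebraMap B R)).primeCompl = x.primeCompl := by
      ext a
      show a ∉ x'.comap (algebraMap B R) ↔ a ∉ x
      rw [hx'c]
    change IsLocalization x.primeCompl _
    rw [← hpc]
    exact this
  let e := IsLocalization.algEquiv x.primeCompl (Localization.AtPrime x') (Localization.AtPrime x)
  exact IsRegularLocalRing.of_ringEquiv e.toRingEquiv

/-- Nagata's criterion: the regular locus of a Noetherian ring `B` is open as soon as `B/P` is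
regular on a nonempty basic open for every prime `P` at which `B` is regular. -/
theorem isOpen_regLocus_of_quotients (B : Type u) [CommRing B] [IsNoetherianRing B]
    (h : ∀ (P : Ideal B) [P.IsPrime], IsRegularLocalRing (Localization.AtPrime P) →
      ∃ f : B, f ∉ P ∧ RegOn (B ⧸ P) (Ideal.Quotient.mk P f)) :
    IsOpen (EGA4.regLocus B) := by
  apply isOpen_of_nagata
  · intro x y hxy hy
    haveI : IsRegularLocalRing (Localization.AtPrime y.asIdeal) := hy
    exact isRegularLocalRing_of_le x.asIdeal y.asIdeal hxy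
  · intro x hx
    haveI : IsRegularLocalRing (Localization.AtPrime x.asIdeal) := hx
    obtain ⟨f, hfx, hf⟩ := h x.asIdeal hx
    obtain ⟨f', hf'x, hf'⟩ := exists_regular_nhds x.asIdeal f hfx (by
      intro Q _ hPQ hfQ
      haveI := isPrime_map_mk x.asIdeal Q hPQ
      have hfQ' : Ideal.Quotient.mk x.asIdeal f ∉ Q.map (Ideal.Quotient.mk x.asIdeal) := by
        rwa [Ideal.mem_quotient_iff_mem hPQ]
      haveI := hf (Q.map (Ideal.Quotient.mk x.asIdeal)) hfQ'
      exact IsRegularLocalRing.of_ringEquiv (quotLocEquiv x.asIdeal Q hPQ))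
    exact ⟨f', hf'x, fun y hxy hfy => hf' y.asIdeal hxy hfy⟩

end Groth.Agent.H8.J2
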