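import Mathlib
import Groth.Agent.Lib.Helper1.RegFlat
import Groth.Agent.Lib.Helper5.CA.RegHom1
import Groth.Agent.Lib.Helper8.J2.J3

namespace Groth.Agent.H8.J2

universe u

open IsLocalRing TensorProduct

open Algebra.TensorProduct in
/-- Variant of helper1's `isRegularLocalRing_of_fiber` assuming regularity of the base only at `p`. -/
theorem isRegularLocalRing_of_fiber' (R S : Type u) [CommRing R] [CommRing S] [Algebra R S]
    [IsNoetherianRing S] [Module.Flat R S] (p : Ideal R) [p.IsPrime]
    [IsRegularLocalRing (Localization.AtPrime p)]
    [IsRegularRing (p.Fiber S)] (q : Ideal (p.Fiber S)) [q.IsPrime] :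
    IsRegularLocalRing (Localization.AtPrime (q.comap (includeRight (R := R) (A := p.ResidueField) (B := S)))) := by
  set r : Ideal S := q.comap (includeRight (R := R) (A := p.ResidueField) (B := S)) with hr
  letI := Localization.AtPrime.algebraOfLiesOver p r
  haveI : IsLocalHom (algebraMap (Localization.AtPrime p) (Localization.AtPrime r)) := by
    rw [RingHom.algebraMap_toAlgebra]
    exact Localization.isLocalHom_localRingHom p r (algebraMap R S) Ideal.LiesOver.over
  have e := Ideal.Fiber.localizationAlgEquivQuotient p q
  have hmap : p.map (algebraMap R (Localization.AtPrime r)) =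
      (IsLocalRing.maximalIdeal (Localization.AtPrime p)).map
        (algebraMap (Localization.AtPrime p) (Localization.AtPrime r)) := by
    rw [← Localization.AtPrime.map_eq_maximalIdeal, Ideal.map_map, ← IsScalarTower.algebraMap_eq]
  have e' : Localization.AtPrime q ≃+* (Localization.AtPrime r ⧸
      (IsLocalRing.maximalIdeal (Localization.AtPrime p)).map
        (algebraMap (Localization.AtPrime p) (Localization.AtPrime r))) :=
    e.toRingEquiv.trans (Ideal.quotEquivOfEq hmap)
  haveI : IsRegularLocalRing (Localization.AtPrime r ⧸
      (IsLocalRing.maximalIdeal (Localization.AtPrime p)).map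
        (algebraMap (Localization.AtPrime p) (Localization.AtPrime r))) :=
    IsRegularLocalRing.of_ringEquiv (R := Localization.AtPrime q) e'
  exact Groth.Agent.H1.RegFlat.isRegularLocalRing_of_flat_of_fiber (Localization.AtPrime p)
    (Localization.AtPrime r)

/-- A smooth algebra `C` over `R` is regular at every prime lying over a regular point of `R`. -/
theorem isRegularLocalRing_of_smooth (R C : Type u) [CommRing R] [CommRing C] [Algebra R C]
    [Algebra.Smooth R C] [IsNoetherianRing C] (r : Ideal C) [hr : r.IsPrime]
    [IsRegularLocalRing (Localization.AtPrime (r.comap (algebraMap R C)))] :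
    IsRegularLocalRing (Localization.AtPrime r) := by
  let p : Ideal R := r.comap (algebraMap R C)
  have hreg := (Groth.Agent.H5.RegHom.isRegularHom_of_smooth R C).2 p
  haveI : IsRegularRing (p.Fiber C) := by
    have h1 := hreg.2 p.ResidueField (Module.Finite.self _)
    exact IsRegularRing.of_ringEquiv (R := p.ResidueField ⊗[p.ResidueField] p.Fiber C)
      (Algebra.TensorProduct.lid p.ResidueField (p.Fiber C)).toRingEquiv
  let x : PrimeSpectrum.comap (algebraMap R C) ⁻¹' {(⟨p, inferInstance⟩ : PrimeSpectrum R)} :=
    ⟨⟨r, hr⟩, rfl⟩
  let q := PrimeSpectrum.preimageEquivFiber R C ⟨p, inferInstance⟩ x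
  have hq : q.asIdeal.comap (Algebra.TensorProduct.includeRight (R := R) (A := p.ResidueField) (B := C)) = r := by
    have := (PrimeSpectrum.preimageEquivFiber R C ⟨p, inferInstance⟩).symm_apply_apply x
    exact congrArg (fun y => y.1.asIdeal) this
  have := isRegularLocalRing_of_fiber' R C p q.asIdeal
  exact Groth.Agent.H1.RegFlat.isRegularLocalRing_congr _ _ hq

/-- If a localization `C = M⁻¹B` is regular at the prime generated by `Q`, `B` is regular at `Q`. -/
theorem isRegularLocalRing_of_isLocalization {B : Type u} [CommRing B] (M : Submonoid B)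
    (C : Type u) [CommRing C] [Algebra B C] [IsLocalization M C] (Q : Ideal B) [Q.IsPrime]
    (hdisj : Disjoint (M : Set B) (Q : Set B))
    (h : ∀ (Q' : Ideal C) [Q'.IsPrime], Q'.comap (algebraMap B C) = Q →
      IsRegularLocalRing (Localization.AtPrime Q')) :
    IsRegularLocalRing (Localization.AtPrime Q) := by
  let Q' : Ideal C := Q.map (algebraMap B C)
  haveI hQ' : Q'.IsPrime := IsLocalization.isPrime_of_isPrime_disjoint M C Q ‹_› hdisj
  have hQ'c : Q'.comap (algebraMap B C) = Q :=
    IsLocalization.under_map_of_isPrime_disjoint M C ‹_› hdisj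
  haveI := h Q' hQ'c
  have h2 : IsLocalization.AtPrime (Localization.AtPrime Q') Q := by
    have := IsLocalization.isLocalization_isLocalization_atPrime_isLocalization
      M (Localization.AtPrime Q') Q'
    have hpc : (Q'.comap (algebraMap B C)).primeCompl = Q.primeCompl := by
      ext a
      show a ∉ Q'.comap (algebraMap B C) ↔ a ∉ Q
      rw [hQ'c]
    change IsLocalization Q.primeCompl _
    rw [← hpc]
    exact this
  let e := IsLocalization.algEquiv Q.primeCompl (Localization.AtPrime Q') (Localization.AtPrime Q)
  exact IsRegularLocalRing.of_ringEquiv e.toRingEquiv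

/-- Conversely `M⁻¹B` is regular at `Q'` if `B` is regular at the contraction of `Q'`. -/
theorem isRegularLocalRing_localization_of_comap {B : Type u} [CommRing B] (M : Submonoid B)
    (C : Type u) [CommRing C] [Algebra B C] [IsLocalization M C] (Q' : Ideal C) [Q'.IsPrime]
    [IsRegularLocalRing (Localization.AtPrime (Q'.comap (algebraMap B C)))] :
    IsRegularLocalRing (Localization.AtPrime Q') := by
  have := IsLocalization.isLocalization_isLocalization_atPrime_isLocalization
    M (Localization.AtPrime Q') Q'
  let e := IsLocalization.algEquiv (Q'.comap (algebraMap B C)).primeCompl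
    (Localization.AtPrime (Q'.comap (algebraMap B C))) (Localization.AtPrime Q')
  exact IsRegularLocalRing.of_ringEquiv e.toRingEquiv

end Groth.Agent.H8.J2
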