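import Mathlib
import Groth.Agent.Lib.Helper8.J2.J4

namespace Groth.Agent.H8.J2

universe u

open IsLocalRing TensorProduct

/-- Separable case: a finite type domain `B` over a Noetherian ring `A₀`, generically formally smooth,
is regular on a nonempty basic open as soon as `A₀` is regular on `D(a)` with `a ≠ 0` in `B`. -/
theorem exists_regOn_of_formallySmooth (A₀ B L : Type u) [CommRing A₀] [IsNoetherianRing A₀]
    [CommRing B] [IsDomain B] [Algebra A₀ B] [Algebra.FiniteType A₀ B]
    [Field L] [Algebra B L] [IsFractionRing B L] [Algebra A₀ L] [IsScalarTower A₀ B L]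
    [Algebra.FormallySmooth A₀ L]
    (a : A₀) (ha : algebraMap A₀ B a ≠ 0) (hA : RegOn A₀ a) : ∃ g : B, g ≠ 0 ∧ RegOn B g := by
  haveI : Algebra.FinitePresentation A₀ B := Algebra.FinitePresentation.of_finiteType.mp inferInstance
  haveI : IsNoetherianRing B := Algebra.FiniteType.isNoetherianRing A₀ B
  haveI hbp : (⊥ : Ideal B).IsPrime := Ideal.isPrime_bot
  have hcompl : (⊥ : Ideal B).primeCompl = nonZeroDivisors B := by
    ext x
    rw [mem_nonZeroDivisors_iff_ne_zero]
    exact Iff.rfl
  haveI : IsLocalization (⊥ : Ideal B).primeCompl L := by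
    rw [hcompl]; infer_instance
  haveI : Algebra.IsSmoothAt A₀ (⊥ : Ideal B) := by
    let e : L ≃ₐ[B] Localization.AtPrime (⊥ : Ideal B) :=
      IsLocalization.algEquiv (⊥ : Ideal B).primeCompl L _
    exact Algebra.FormallySmooth.of_equiv (e.restrictScalars A₀)
  obtain ⟨f, hf, hsm⟩ := Algebra.IsSmoothAt.exists_notMem_smooth A₀ (⊥ : Ideal B)
  have hf0 : f ≠ 0 := fun h => hf (by rw [h]; exact Ideal.zero_mem _)
  set g : B := f * algebraMap A₀ B a with hg
  have hg0 : g ≠ 0 := mul_ne_zero hf0 ha
  haveI : Algebra.Smooth A₀ (Localization.Away g) := by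
    rw [← Algebra.basicOpen_subset_smoothLocus_iff_smooth] at hsm ⊢
    refine subset_trans ?_ hsm
    rw [hg]
    exact PrimeSpectrum.basicOpen_mul_le_left f _
  set C := Localization.Away g
  haveI : IsNoetherianRing C := IsLocalization.isNoetherianRing (Submonoid.powers g) C inferInstance
  refine ⟨g, hg0, fun Q _ hgQ => ?_⟩
  have hdisj : Disjoint ((Submonoid.powers g : Submonoid B) : Set B) (Q : Set B) :=
    (Ideal.disjoint_powers_iff_notMem_of_isPrime _).mpr hgQ
  refine isRegularLocalRing_of_isLocalization (Submonoid.powers g) C Q hdisj ?_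
  intro Q' _ hQ'
  haveI : IsRegularLocalRing (Localization.AtPrime (Q'.comap (algebraMap A₀ C))) := by
    apply hA
    intro haQ
    apply hgQ
    rw [← hQ']
    have h1 : algebraMap A₀ B a ∈ Q'.comap (algebraMap B C) := by
      rw [Ideal.mem_comap, ← IsScalarTower.algebraMap_apply]
      exact haQ
    exact Ideal.mul_mem_left (Q'.comap (algebraMap B C)) f h1
  exact isRegularLocalRing_of_smooth A₀ C Q'

end Groth.Agent.H8.J2
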