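import Mathlib
import Groth.Agent.Lib.Helper1.RegFlat

namespace Groth.Agent.H8.J2

universe u

open TensorProduct

section abstract

variable (K E Ω L : Type u) [Field K] [Field E] [Field Ω] [Field L]
  [Algebra K E] [Algebra E Ω] [Algebra K Ω] [IsScalarTower K E Ω] [Algebra K L]

/-- The natural map `E ⊗[K] L → Ω ⊗[K] L`. -/
noncomputable def iota : E ⊗[K] L →ₐ[K] Ω ⊗[K] L :=
  Algebra.TensorProduct.map (IsScalarTower.toAlgHom K E Ω) (AlgHom.id K L)

theorem cancel_comp_includeRight :
    ((Algebra.TensorProduct.cancelBaseChange K E Ω Ω L).toAlgHom.toRingHom).comp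
      (Algebra.TensorProduct.includeRight (R := E) (A := Ω) (B := E ⊗[K] L)).toRingHom =
    (iota K E Ω L).toRingHom := by
  apply RingHom.ext
  intro x
  induction x using TensorProduct.induction_on with
  | zero => simp
  | tmul e l =>
    simp only [iota, AlgHom.toRingHom_eq_coe, RingHom.coe_comp,
      RingHom.coe_coe, Function.comp_apply, Algebra.TensorProduct.includeRight_apply,
      Algebra.TensorProduct.map_tmul, IsScalarTower.coe_toAlgHom', AlgHom.coe_id, id_eq]
    refine (Algebra.TensorProduct.cancelBaseChange_tmul K E Ω Ω L 1 e l).trans ?_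
    rw [Algebra.smul_def, mul_one]
  | add x y hx hy => simp only [map_add, hx, hy]

variable {K E Ω L}

/-- The quotient of `E ⊗[K] L` by an ideal extending to a prime of `Ω ⊗[K] L` becomes a domain after
base change to `Ω`. -/
noncomputable def tensorQuotEquiv (I : Ideal (E ⊗[K] L)) (P : Ideal (Ω ⊗[K] L))
    (hI : I.map (iota K E Ω L).toRingHom = P) :
    Ω ⊗[E] ((E ⊗[K] L) ⧸ I) ≃+* (Ω ⊗[K] L) ⧸ P := by
  let ψ : Ω ⊗[E] (E ⊗[K] L) →ₐ[E] Ω ⊗[E] ((E ⊗[K] L) ⧸ I) :=
    Algebra.TensorProduct.map (AlgHom.id E Ω) (Ideal.Quotient.mkₐ E I)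
  have hψs : Function.Surjective ψ :=
    Algebra.TensorProduct.map_surjective _ _ Function.surjective_id
      (Ideal.Quotient.mkₐ_surjective E I)
  have hker : RingHom.ker ψ.toRingHom =
      I.map (Algebra.TensorProduct.includeRight (R := E) (A := Ω) (B := E ⊗[K] L)).toRingHom := by
    have := Algebra.TensorProduct.lTensor_ker (A := Ω) (Ideal.Quotient.mkₐ E I)
      (Ideal.Quotient.mkₐ_surjective E I)
    have hk : RingHom.ker (Ideal.Quotient.mkₐ E I) = I := by
      ext x
      simp [Ideal.Quotient.eq_zero_iff_mem]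
    rw [hk] at this
    exact this
  let c := (Algebra.TensorProduct.cancelBaseChange K E Ω Ω L).toRingEquiv
  have hc : P = (RingHom.ker ψ.toRingHom).map (c : Ω ⊗[E] (E ⊗[K] L) →+* Ω ⊗[K] L) := by
    rw [hker, Ideal.map_map, ← hI]
    congr 1
    exact (cancel_comp_includeRight K E Ω L).symm
  exact (RingHom.quotientKerEquivOfSurjective (f := ψ.toRingHom) hψs).symm.trans
    (Ideal.quotientEquiv _ _ c hc)

theorem isDomain_quot (I : Ideal (E ⊗[K] L)) (P : Ideal (Ω ⊗[K] L)) [P.IsPrime]
    (hI : I.map (iota K E Ω L).toRingHom = P) : IsDomain ((E ⊗[K] L) ⧸ I) := by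
  let g : ((E ⊗[K] L) ⧸ I) →+* (Ω ⊗[K] L) ⧸ P :=
    (tensorQuotEquiv I P hI).toRingHom.comp
      (Algebra.TensorProduct.includeRight (R := E) (A := Ω) (B := (E ⊗[K] L) ⧸ I)).toRingHom
  have hg : Function.Injective g := by
    refine (tensorQuotEquiv I P hI).injective.comp ?_
    exact Algebra.TensorProduct.includeRight_injective (algebraMap E Ω).injective
  exact hg.isDomain g

theorem isGeometricallyReduced_quot [IsAlgClosed Ω] [Algebra.IsAlgebraic E Ω]
    (I : Ideal (E ⊗[K] L)) (P : Ideal (Ω ⊗[K] L)) [P.IsPrime]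
    (hI : I.map (iota K E Ω L).toRingHom = P) :
    Algebra.IsGeometricallyReduced E ((E ⊗[K] L) ⧸ I) := by
  rw [Algebra.isGeometricallyReduced_field_iff]
  haveI : IsAlgClosure E Ω := ⟨inferInstance, inferInstance⟩
  let e₀ : AlgebraicClosure E ≃ₐ[E] Ω := IsAlgClosure.equiv E _ _
  let e₁ : AlgebraicClosure E ⊗[E] ((E ⊗[K] L) ⧸ I) ≃ₐ[E] Ω ⊗[E] ((E ⊗[K] L) ⧸ I) :=
    Algebra.TensorProduct.congr e₀ AlgEquiv.refl
  let g : AlgebraicClosure E ⊗[E] ((E ⊗[K] L) ⧸ I) →+* (Ω ⊗[K] L) ⧸ P :=
    (tensorQuotEquiv I P hI).toRingHom.comp e₁.toRingEquiv.toRingHom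
  have hg : Function.Injective g := (tensorQuotEquiv I P hI).injective.comp e₁.injective
  exact isReduced_of_injective g hg

theorem isField_quot [Algebra.IsAlgebraic K E]
    (I : Ideal (E ⊗[K] L)) (P : Ideal (Ω ⊗[K] L)) [P.IsPrime]
    (hI : I.map (iota K E Ω L).toRingHom = P) : IsField ((E ⊗[K] L) ⧸ I) := by
  haveI := isDomain_quot I P hI
  let f : L →+* (E ⊗[K] L) ⧸ I := (Ideal.Quotient.mk I).comp
    (Algebra.TensorProduct.includeRight (R := K) (A := E) (B := L)).toRingHom
  letI := f.toAlgebra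
  have hf : ∀ l, algebraMap L ((E ⊗[K] L) ⧸ I) l = Ideal.Quotient.mk I (1 ⊗ₜ l) := fun l => rfl
  haveI : Algebra.IsIntegral L ((E ⊗[K] L) ⧸ I) := by
    refine ⟨fun y => ?_⟩
    obtain ⟨x, rfl⟩ := Ideal.Quotient.mk_surjective y
    induction x using TensorProduct.induction_on with
    | zero => rw [map_zero]; exact isIntegral_zero
    | tmul e l =>
      have h1 : (e ⊗ₜ[K] l : E ⊗[K] L) = (e ⊗ₜ 1) * (1 ⊗ₜ l) := by
        rw [Algebra.TensorProduct.tmul_mul_tmul, mul_one, one_mul]
      rw [h1, map_mul]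
      refine IsIntegral.mul ?_ ?_
      · let ψ : E →+* (E ⊗[K] L) ⧸ I := (Ideal.Quotient.mk I).comp
          (Algebra.TensorProduct.includeLeft (R := K) (S := K) (A := E) (B := L)).toRingHom
        have hcomm : (algebraMap L ((E ⊗[K] L) ⧸ I)).comp (algebraMap K L) =
            ψ.comp (algebraMap K E) := by
          ext k
          simp only [RingHom.coe_comp, Function.comp_apply, hf, ψ, AlgHom.toRingHom_eq_coe,
            RingHom.coe_coe, Algebra.TensorProduct.includeLeft_apply]
          congr 1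
          rw [Algebra.algebraMap_eq_smul_one, Algebra.algebraMap_eq_smul_one, TensorProduct.tmul_smul,
            TensorProduct.smul_tmul']
        exact IsIntegral.map_of_comp_eq (algebraMap K L) ψ hcomm
          (Algebra.IsIntegral.isIntegral (R := K) e)
      · rw [← hf]; exact isIntegral_algebraMap
    | add x y hx hy => rw [map_add]; exact IsIntegral.add hx hy
  exact isField_of_isIntegral_of_isField' (Field.toIsField L)

end abstract

section select

variable (K L : Type u) [Field K] [Field L] [Algebra K L]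

theorem iota_range_mono {E₁ E₂ : IntermediateField K (AlgebraicClosure K)} (h : E₁ ≤ E₂) :
    (iota K E₁ (AlgebraicClosure K) L).range ≤ (iota K E₂ (AlgebraicClosure K) L).range := by
  have : iota K E₁ (AlgebraicClosure K) L = (iota K E₂ (AlgebraicClosure K) L).comp
      (Algebra.TensorProduct.map (IntermediateField.inclusion h) (AlgHom.id K L)) := by
    apply Algebra.TensorProduct.ext'
    intro e l
    simp [iota]
  rw [this]
  exact AlgHom.range_comp_le_range _ _

theorem exists_finiteDimensional_mem_range (x : AlgebraicClosure K ⊗[K] L) :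
    ∃ E₀ : IntermediateField K (AlgebraicClosure K), FiniteDimensional K E₀ ∧
      x ∈ (iota K E₀ (AlgebraicClosure K) L).range := by
  induction x using TensorProduct.induction_on with
  | zero => exact ⟨⊥, inferInstance, Subalgebra.zero_mem _⟩
  | tmul ω l =>
    refine ⟨IntermediateField.adjoin K {ω},
      IntermediateField.adjoin.finiteDimensional (Algebra.IsIntegral.isIntegral ω), ?_⟩
    refine ⟨(⟨ω, IntermediateField.mem_adjoin_simple_self K ω⟩ :
      IntermediateField.adjoin K {ω}) ⊗ₜ l, ?_⟩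
    simp [iota]
  | add x y hx hy =>
    obtain ⟨E₁, h1, hx⟩ := hx
    obtain ⟨E₂, h2, hy⟩ := hy
    exact ⟨E₁ ⊔ E₂, inferInstance,
      Subalgebra.add_mem _ (iota_range_mono K L le_sup_left hx) (iota_range_mono K L le_sup_right hy)⟩

theorem exists_finiteDimensional_subset_range (T : Finset (AlgebraicClosure K ⊗[K] L)) :
    ∃ E₀ : IntermediateField K (AlgebraicClosure K), FiniteDimensional K E₀ ∧
      ∀ x ∈ T, x ∈ (iota K E₀ (AlgebraicClosure K) L).range := by
  classical
  induction T using Finset.induction_on with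
  | empty => exact ⟨⊥, inferInstance, fun x hx => absurd hx (Finset.notMem_empty x)⟩
  | insert a T _ ih =>
    obtain ⟨E₁, h1, hT⟩ := ih
    obtain ⟨E₂, h2, ha⟩ := exists_finiteDimensional_mem_range K L a
    refine ⟨E₁ ⊔ E₂, inferInstance, fun x hx => ?_⟩
    rw [Finset.mem_insert] at hx
    rcases hx with rfl | hx
    · exact iota_range_mono K L le_sup_right ha
    · exact iota_range_mono K L le_sup_left (hT x hx)

end select

section final

variable {K L : Type u} [Field K] [Field L] [Algebra K L]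

theorem exists_ideal_of_range (E Ω : Type u) [Field E] [Field Ω] [Algebra K E] [Algebra E Ω]
    [Algebra K Ω] [IsScalarTower K E Ω] [Algebra.IsAlgebraic K E] [IsAlgClosed Ω]
    [Algebra.IsAlgebraic E Ω]
    (P : Ideal (Ω ⊗[K] L)) [P.IsPrime] (T : Set (Ω ⊗[K] L)) (hT : Ideal.span T = P)
    (hrange : ∀ x ∈ T, x ∈ (iota K E Ω L).range) :
    ∃ I : Ideal (E ⊗[K] L), IsField ((E ⊗[K] L) ⧸ I) ∧
      Algebra.IsGeometricallyReduced E ((E ⊗[K] L) ⧸ I) := by
  let I : Ideal (E ⊗[K] L) := Ideal.span ((iota K E Ω L) ⁻¹' T)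
  have hI : I.map (iota K E Ω L).toRingHom = P := by
    rw [Ideal.map_span, ← hT]
    congr 1
    apply Set.image_preimage_eq_of_subset
    intro x hx
    obtain ⟨y, hy⟩ := hrange x hx
    exact ⟨y, hy⟩
  exact ⟨I, isField_quot I P hI, isGeometricallyReduced_quot I P hI⟩

theorem exists_finite_ext [Algebra.EssFiniteType K L] :
    ∃ (E : Type u) (_ : Field E) (_ : Algebra K E) (_ : Module.Finite K E)
      (I : Ideal (E ⊗[K] L)), IsField ((E ⊗[K] L) ⧸ I) ∧
        Algebra.IsGeometricallyReduced E ((E ⊗[K] L) ⧸ I) := by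
  classical
  set Ω := AlgebraicClosure K
  haveI : IsNoetherianRing (Ω ⊗[K] L) :=
    Groth.Agent.H1.RegFlat.isNoetherianRing_of_essFiniteType Ω (Ω ⊗[K] L)
  haveI : Nontrivial (Ω ⊗[K] L) :=
    (Algebra.TensorProduct.includeRight_injective (R := K) (A := Ω) (B := L)
      (algebraMap K Ω).injective).nontrivial
  obtain ⟨P, hP⟩ := Ideal.exists_maximal (Ω ⊗[K] L)
  haveI := hP.isPrime
  obtain ⟨T, hT⟩ := (IsNoetherian.noetherian P : P.FG)
  obtain ⟨E₀, hfd, hrange⟩ := exists_finiteDimensional_subset_range K L T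
  haveI : Algebra.IsAlgebraic K E₀ := Algebra.IsAlgebraic.of_finite K E₀
  haveI : Algebra.IsAlgebraic E₀ Ω := Algebra.IsAlgebraic.tower_top (K := K) E₀
  obtain ⟨I, h1, h2⟩ := exists_ideal_of_range (K := K) (L := L) E₀ Ω P (T : Set (Ω ⊗[K] L)) hT
    (fun x hx => hrange x hx)
  exact ⟨E₀, inferInstance, inferInstance, hfd, I, h1, h2⟩

end final

end Groth.Agent.H8.J2
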