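import Mathlib
import Groth.Agent.Lib.Helper1.RegLoc
import Groth.Agent.Lib.Helper8.J2.J4

namespace Groth.Agent.H8.J2

universe u

open IsLocalRing TensorProduct

attribute [local instance] Algebra.TensorProduct.rightAlgebra in
/-- Flat descent of regularity after inverting `r`. -/
theorem isRegularLocalRing_of_flat_away (B B' : Type u) [CommRing B] [IsNoetherianRing B]
    [CommRing B'] [Algebra B B'] (r : B)
    [Module.Flat (Localization.Away r) (Localization.Away r ⊗[B] B')]
    (Q' : Ideal B') [Q'.IsPrime] (hr : algebraMap B B' r ∉ Q')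
    [IsRegularLocalRing (Localization.AtPrime Q')] :
    IsRegularLocalRing (Localization.AtPrime (Q'.comap (algebraMap B B'))) := by
  set B₁ := Localization.Away r
  set B'₁ := B₁ ⊗[B] B'
  set Q : Ideal B := Q'.comap (algebraMap B B') with hQ
  let M' := Algebra.algebraMapSubmonoid B' (Submonoid.powers r)
  have hloc : IsLocalization M' B'₁ := inferInstance
  have hdisj' : Disjoint (M' : Set B') (Q' : Set B') := by
    rw [Set.disjoint_left]
    rintro _ ⟨a, ⟨n, rfl⟩, rfl⟩ haQ
    rw [map_pow] at haQ
    exact hr (Ideal.IsPrime.mem_of_pow_mem inferInstance n haQ)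
  let Q'₁ : Ideal B'₁ := Q'.map (algebraMap B' B'₁)
  haveI hQ'₁ : Q'₁.IsPrime := IsLocalization.isPrime_of_isPrime_disjoint M' _ _ ‹_› hdisj'
  have hQ'₁c : Q'₁.comap (algebraMap B' B'₁) = Q' :=
    IsLocalization.under_map_of_isPrime_disjoint M' _ ‹_› hdisj'
  haveI : IsRegularLocalRing (Localization.AtPrime (Q'₁.comap (algebraMap B' B'₁))) := by
    exact Groth.Agent.H1.RegFlat.isRegularLocalRing_congr Q' _ hQ'₁c.symm
  haveI : IsRegularLocalRing (Localization.AtPrime Q'₁) :=
    isRegularLocalRing_localization_of_comap M' B'₁ Q'₁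
  let Q₁ : Ideal B₁ := Q'₁.comap (algebraMap B₁ B'₁)
  haveI : Q₁.IsPrime := Ideal.comap_isPrime _ _
  haveI : Q'₁.LiesOver Q₁ := ⟨rfl⟩
  haveI : IsNoetherianRing B₁ := IsLocalization.isNoetherianRing (Submonoid.powers r) B₁ inferInstance
  haveI : IsRegularLocalRing (Localization.AtPrime Q₁) := by
    letI := Localization.AtPrime.algebraOfLiesOver Q₁ Q'₁
    haveI : IsLocalHom (algebraMap (Localization.AtPrime Q₁) (Localization.AtPrime Q'₁)) :=
      Localization.isLocalHom_localRingHom _ _ _ Ideal.LiesOver.over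
    haveI : IsNoetherianRing (Localization.AtPrime Q₁) :=
      IsLocalization.isNoetherianRing Q₁.primeCompl _ inferInstance
    exact Groth.Agent.H1.Reg.isRegularLocalRing_of_flat (Localization.AtPrime Q₁)
      (Localization.AtPrime Q'₁)
  have hQ₁c : Q₁.comap (algebraMap B B₁) = Q := by
    rw [hQ, ← hQ'₁c]
    simp only [Q₁, Ideal.comap_comap]
    congr 1
    ext b
    simp only [RingHom.coe_comp, Function.comp_apply]
    rw [← IsScalarTower.algebraMap_apply, ← IsScalarTower.algebraMap_apply]
  have hdisj : Disjoint ((Submonoid.powers r : Submonoid B) : Set B) (Q : Set B) := by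
    rw [Set.disjoint_left]
    rintro _ ⟨n, rfl⟩ haQ
    have : r ∈ Q := Ideal.IsPrime.mem_of_pow_mem inferInstance n haQ
    exact hr this
  refine isRegularLocalRing_of_isLocalization (Submonoid.powers r) B₁ Q hdisj ?_
  intro Q'' _ hQ''
  have : Q'' = Q₁ := by
    have h1 := IsLocalization.map_under (Submonoid.powers r) B₁ Q''
    have h2 := IsLocalization.map_under (Submonoid.powers r) B₁ Q₁
    rw [← h1, ← h2, Ideal.under_def, Ideal.under_def, hQ'', hQ₁c]
  subst this
  infer_instance

end Groth.Agent.H8.J2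

namespace Groth.Agent.H8.J2

universe u

open IsLocalRing TensorProduct

/-- Generic freeness for finite modules over a Noetherian domain, in flat form. -/
theorem exists_flat_away (B M : Type u) [CommRing B] [IsDomain B] [IsNoetherianRing B]
    [AddCommGroup M] [Module B M] [Module.Finite B M] :
    ∃ r : B, r ≠ 0 ∧ Module.Flat (Localization.Away r) (Localization.Away r ⊗[B] M) := by
  haveI : Module.FinitePresentation B M := Module.finitePresentation_of_finite B M
  haveI : Module.Free (FractionRing B) (LocalizedModule (nonZeroDivisors B) M) :=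
    Module.Free.of_divisionRing _ _
  obtain ⟨r, hr, hfree, -⟩ := Module.FinitePresentation.exists_free_localizedModule_powers
    (nonZeroDivisors B) (LocalizedModule.mkLinearMap (nonZeroDivisors B) M) (FractionRing B)
  refine ⟨r, nonZeroDivisors.ne_zero hr, ?_⟩
  let e := (IsLocalizedModule.isBaseChange (Submonoid.powers r) (Localization.Away r)
    (LocalizedModule.mkLinearMap (Submonoid.powers r) M)).equiv
  haveI : Module.Free (Localization.Away r) (LocalizedModule (Submonoid.powers r) M) := hfree
  haveI : Module.Free (Localization.Away r) (Localization.Away r ⊗[B] M) :=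
    Module.Free.of_equiv e.symm
  infer_instance

/-- Descent of generic regularity along a finite injective extension of Noetherian domains. -/
theorem regOn_descent (B B' : Type u) [CommRing B] [IsDomain B] [IsNoetherianRing B]
    [CommRing B'] [IsDomain B'] [Algebra B B'] [Module.Finite B B']
    (hinj : Function.Injective (algebraMap B B')) (g' : B') (hg' : g' ≠ 0) (h : RegOn B' g') :
    ∃ g : B, g ≠ 0 ∧ RegOn B g := by
  haveI : Algebra.IsIntegral B B' := Algebra.IsIntegral.of_finite B B'
  obtain ⟨r, hr0, hflat⟩ := exists_flat_away B B'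
  have hne : (Ideal.span {g'}).comap (algebraMap B B') ≠ ⊥ :=
    Ideal.comap_ne_bot_of_integral_mem hg' (Ideal.mem_span_singleton_self g')
      (Algebra.IsIntegral.isIntegral g')
  obtain ⟨h₀, hh₀, hh₀0⟩ := Submodule.exists_mem_ne_zero_of_ne_bot hne
  refine ⟨h₀ * r, mul_ne_zero hh₀0 hr0, fun Q _ hQ => ?_⟩
  have hh₀Q : h₀ ∉ Q := fun h => hQ (Ideal.mul_mem_right _ _ h)
  have hrQ : r ∉ Q := fun h => hQ (Ideal.mul_mem_left _ _ h)
  obtain ⟨Q', hQ'p, hQ'c⟩ := Ideal.exists_ideal_over_prime_of_isIntegral_of_isDomain (S := B') Q (by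
    rw [(RingHom.injective_iff_ker_eq_bot _).mp hinj]; exact bot_le)
  haveI := hQ'p
  have hg'Q' : g' ∉ Q' := by
    intro hg
    apply hh₀Q
    rw [← hQ'c, Ideal.mem_comap]
    have h1 : algebraMap B B' h₀ ∈ Ideal.span {g'} := hh₀
    exact ((Ideal.span_singleton_le_iff_mem (I := Q')).mpr hg) h1
  haveI := h Q' hg'Q'
  have hr' : algebraMap B B' r ∉ Q' := by
    intro h'
    apply hrQ
    rw [← hQ'c]
    exact h'
  have := isRegularLocalRing_of_flat_away B B' r Q' hr'
  exact Groth.Agent.H1.RegFlat.isRegularLocalRing_congr _ _ hQ'c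

end Groth.Agent.H8.J2
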