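import Mathlib
import Groth.Agent.Lib.Helper8.J2.J8

namespace Groth.Agent.H8.J2

universe u

open IsLocalRing TensorProduct

theorem exists_fields (K L : Type u) [Field K] [Field L] [Algebra K L] [Algebra.EssFiniteType K L] :
    ∃ (E F : Type u) (_ : Field E) (_ : Field F) (_ : Algebra K E) (_ : Module.Finite K E)
      (_ : Algebra E F) (_ : Algebra L F) (_ : Algebra K F) (_ : IsScalarTower K E F)
      (_ : IsScalarTower K L F),
      Algebra.FormallySmooth E F ∧ Submodule.span L (Set.range (algebraMap E F)) = ⊤ := by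
  obtain ⟨E, _, _, _, I, hF, hGR⟩ := exists_finite_ext (K := K) (L := L)
  haveI : I.IsMaximal := Ideal.Quotient.maximal_of_isField I hF
  letI : Field ((E ⊗[K] L) ⧸ I) := Ideal.Quotient.field I
  letI : Algebra L ((E ⊗[K] L) ⧸ I) :=
    ((Ideal.Quotient.mk I).comp
      (Algebra.TensorProduct.includeRight : L →ₐ[K] E ⊗[K] L).toRingHom).toAlgebra
  have htower : IsScalarTower K L ((E ⊗[K] L) ⧸ I) := IsScalarTower.of_algebraMap_eq (fun k => by
    show Ideal.Quotient.mk I (algebraMap K (E ⊗[K] L) k) =
      Ideal.Quotient.mk I ((Algebra.TensorProduct.includeRight : L →ₐ[K] E ⊗[K] L) (algebraMap K L k))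
    rw [AlgHom.commutes])
  refine ⟨E, (E ⊗[K] L) ⧸ I, inferInstance, inferInstance, inferInstance, inferInstance,
    inferInstance, inferInstance, inferInstance, inferInstance, htower, ?_, ?_⟩
  · exact Groth.Agent.H5.GR.formallySmooth_field_iff.mpr hGR
  · rw [eq_top_iff]
    rintro z -
    obtain ⟨t, rfl⟩ := Ideal.Quotient.mk_surjective z
    induction t using TensorProduct.induction_on with
    | zero => rw [map_zero]; exact Submodule.zero_mem _
    | add x y hx hy => rw [map_add]; exact Submodule.add_mem _ hx hy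
    | tmul e l =>
      have : Ideal.Quotient.mk I (e ⊗ₜ[K] l) = l • algebraMap E ((E ⊗[K] L) ⧸ I) e := by
        rw [Algebra.smul_def]
        show _ = Ideal.Quotient.mk I ((1 : E) ⊗ₜ[K] l) * Ideal.Quotient.mk I (e ⊗ₜ[K] (1 : L))
        rw [← map_mul, Algebra.TensorProduct.tmul_mul_tmul, one_mul, mul_one]
      rw [this]
      exact Submodule.smul_mem _ _ (Submodule.subset_span ⟨e, rfl⟩)

set_option maxHeartbeats 800000 in
theorem exists_regOn_of_j0Fin_inj (A₀ B : Type u) [CommRing A₀] [IsDomain A₀] [IsNoetherianRing A₀]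
    [CommRing B] [IsDomain B] [Algebra A₀ B] [Algebra.FiniteType A₀ B]
    (hinj : Function.Injective (algebraMap A₀ B)) (h : J0Fin A₀) :
    ∃ g : B, g ≠ 0 ∧ RegOn B g := by
  haveI : FaithfulSMul A₀ B := (faithfulSMul_iff_algebraMap_injective A₀ B).mpr hinj
  letI : Algebra (FractionRing A₀) (FractionRing B) := FractionRing.liftAlgebra A₀ (FractionRing B)
  haveI : Algebra.EssFiniteType B (FractionRing B) :=
    Algebra.EssFiniteType.of_isLocalization (FractionRing B) (nonZeroDivisors B)
  haveI : Algebra.EssFiniteType A₀ (FractionRing B) :=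
    Algebra.EssFiniteType.comp A₀ B (FractionRing B)
  haveI : Algebra.EssFiniteType (FractionRing A₀) (FractionRing B) :=
    Algebra.EssFiniteType.of_comp A₀ (FractionRing A₀) (FractionRing B)
  obtain ⟨E, F, _, _, _, _, _, _, _, _, _, hfs, hgen⟩ :=
    exists_fields (FractionRing A₀) (FractionRing B)
  letI : Algebra A₀ E := ((algebraMap (FractionRing A₀) E).comp (algebraMap A₀ (FractionRing A₀))).toAlgebra
  haveI : IsScalarTower A₀ (FractionRing A₀) E := IsScalarTower.of_algebraMap_eq (fun _ => rfl)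
  letI : Algebra B F := ((algebraMap (FractionRing B) F).comp (algebraMap B (FractionRing B))).toAlgebra
  haveI : IsScalarTower B (FractionRing B) F := IsScalarTower.of_algebraMap_eq (fun _ => rfl)
  letI : Algebra A₀ F := ((algebraMap E F).comp (algebraMap A₀ E)).toAlgebra
  haveI : IsScalarTower A₀ E F := IsScalarTower.of_algebraMap_eq (fun _ => rfl)
  haveI : IsScalarTower A₀ B F := IsScalarTower.of_algebraMap_eq (fun x => by
    show algebraMap E F (algebraMap (FractionRing A₀) E (algebraMap A₀ (FractionRing A₀) x)) =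
      algebraMap (FractionRing B) F (algebraMap B (FractionRing B) (algebraMap A₀ B x))
    rw [← IsScalarTower.algebraMap_apply (FractionRing A₀) E F,
      IsScalarTower.algebraMap_apply (FractionRing A₀) (FractionRing B) F,
      ← IsScalarTower.algebraMap_apply A₀ (FractionRing A₀) (FractionRing B),
      IsScalarTower.algebraMap_apply A₀ B (FractionRing B)])
  exact exists_regOn_of_fields A₀ B (FractionRing A₀) (FractionRing B) E F hgen h

theorem J0Fin.quotient {A : Type u} [CommRing A] (h : J0Fin A) (I : Ideal A) : J0Fin (A ⧸ I) := by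
  intro A' _ _ _ hfin
  letI : Algebra A A' := ((algebraMap (A ⧸ I) A').comp (Ideal.Quotient.mk I)).toAlgebra
  haveI : IsScalarTower A (A ⧸ I) A' := IsScalarTower.of_algebraMap_eq (fun _ => rfl)
  haveI : Module.Finite A A' := Module.Finite.trans (A ⧸ I) A'
  exact h A' inferInstance

theorem exists_regOn_of_j0Fin (A B : Type u) [CommRing A] [IsNoetherianRing A]
    [CommRing B] [IsDomain B] [Algebra A B] [Algebra.FiniteType A B] (h : J0Fin A) :
    ∃ g : B, g ≠ 0 ∧ RegOn B g := by
  let I : Ideal A := RingHom.ker (algebraMap A B)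
  haveI : I.IsPrime := RingHom.ker_isPrime _
  letI : Algebra (A ⧸ I) B := (RingHom.kerLift (algebraMap A B)).toAlgebra
  haveI : IsScalarTower A (A ⧸ I) B := IsScalarTower.of_algebraMap_eq (fun _ => rfl)
  haveI : Algebra.FiniteType (A ⧸ I) B := Algebra.FiniteType.of_restrictScalars_finiteType A (A ⧸ I) B
  exact exists_regOn_of_j0Fin_inj (A ⧸ I) B (RingHom.kerLift_injective _) (h.quotient I)

/-- Nagata's criterion, `⇐` direction of EGA IV 6.12.4 -/
theorem isJ2_of_j0Fin (A : Type u) [CommRing A] [IsNoetherianRing A] (h : J0Fin A) :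
    EGA4.IsJ2 A := by
  intro S _ _ hft
  haveI : IsNoetherianRing S := Algebra.FiniteType.isNoetherianRing A S
  apply isOpen_regLocus_of_quotients
  intro P _ _
  obtain ⟨g, hg0, hg⟩ := exists_regOn_of_j0Fin A (S ⧸ P) h
  obtain ⟨f, rfl⟩ := Ideal.Quotient.mk_surjective g
  refine ⟨f, ?_, hg⟩
  intro hf
  exact hg0 (Ideal.Quotient.eq_zero_iff_mem.mpr hf)

theorem isRegularLocalRing_atPrime_bot (A' : Type u) [CommRing A'] [IsDomain A'] :
    IsRegularLocalRing (Localization.AtPrime (⊥ : Ideal A')) := by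
  have hcompl : (⊥ : Ideal A').primeCompl = nonZeroDivisors A' := by
    ext x
    rw [mem_nonZeroDivisors_iff_ne_zero]
    exact Iff.rfl
  haveI : IsLocalization (⊥ : Ideal A').primeCompl (FractionRing A') := by
    rw [hcompl]; infer_instance
  haveI : IsRegularLocalRing (FractionRing A') := inferInstance
  let e : FractionRing A' ≃ₐ[A'] Localization.AtPrime (⊥ : Ideal A') :=
    IsLocalization.algEquiv (⊥ : Ideal A').primeCompl _ _
  exact IsRegularLocalRing.of_ringEquiv e.toRingEquiv

theorem j0Fin_of_isJ2 (A : Type u) [CommRing A] (h : EGA4.IsJ2 A) : J0Fin A := by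
  intro A' _ _ _ hfin
  haveI := hfin
  have hopen := h A' inferInstance
  refine ⟨EGA4.regLocus A', hopen, ⟨⟨⊥, Ideal.isPrime_bot⟩, ?_⟩, subset_rfl⟩
  exact isRegularLocalRing_atPrime_bot A'

end Groth.Agent.H8.J2
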