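import Mathlib
import Groth.Agent.Lib.Helper8.J2.J9

namespace Groth.Agent.H8.J2

universe u

open IsLocalRing TensorProduct

/-- A domain in which `⊥` is maximal has everywhere regular spectrum. -/
theorem regLocus_eq_univ_of_bot_isMaximal (A' : Type u) [CommRing A'] [IsDomain A']
    (hmax : (⊥ : Ideal A').IsMaximal) : EGA4.regLocus A' = Set.univ := by
  rw [Set.eq_univ_iff_forall]
  intro p
  have hp : p = ⟨⊥, Ideal.isPrime_bot⟩ := by
    apply PrimeSpectrum.ext
    exact (hmax.eq_of_le p.2.ne_top bot_le).symm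
  rw [hp]
  exact isRegularLocalRing_atPrime_bot A'

theorem j0Fin_of_field (k : Type u) [Field k] : J0Fin k := by
  intro A' _ _ _ hfin
  haveI := hfin
  haveI : IsArtinianRing A' := IsArtinianRing.of_finite k A'
  haveI : (⊥ : Ideal A').IsPrime := Ideal.isPrime_bot
  have hmax : (⊥ : Ideal A').IsMaximal := IsArtinianRing.isMaximal_of_isPrime ⊥
  refine ⟨Set.univ, isOpen_univ, Set.univ_nonempty, ?_⟩
  rw [regLocus_eq_univ_of_bot_isMaximal A' hmax]

end Groth.Agent.H8.J2
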