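import Mathlib
import Groth.Agent.Lib.Helper8.J2.J10

namespace Groth.Agent.H8.J2

universe u

open IsLocalRing TensorProduct

/-- In a Noetherian ring of dimension `≤ 1`, a prime strictly containing a prime is maximal. -/
theorem isMaximal_of_lt_of_dim_le_one {A : Type u} [CommRing A] [IsNoetherianRing A]
    (hdim : ringKrullDim A ≤ 1) (p₀ p : Ideal A) [p₀.IsPrime] [p.IsPrime] (hlt : p₀ < p) :
    p.IsMaximal := by
  by_contra hmax
  obtain ⟨m, hm, hpm⟩ := Ideal.exists_le_maximal p (Ideal.IsPrime.ne_top inferInstance)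
  have hpm' : p < m := lt_of_le_of_ne hpm (by rintro rfl; exact hmax hm)
  haveI := hm.isPrime
  have h1 : p₀.height < p.height := Ideal.height_strict_mono_of_isPrime hlt
  have h2 : p.height < m.height := Ideal.height_strict_mono_of_isPrime hpm'
  have h3 : (m.height : WithBot ℕ∞) ≤ 1 := (Ideal.height_le_ringKrullDim_of_ne_top hm.ne_top).trans hdim
  have h3' : m.height ≤ 1 := by exact_mod_cast h3
  have h4 : p.height < 1 := lt_of_lt_of_le h2 h3'
  have h5 : p.height = 0 := Order.lt_one_iff.mp h4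
  rw [h5] at h1
  exact not_lt_bot h1

theorem j0Fin_of_semilocal_dim_le_one (A : Type u) [CommRing A] [IsNoetherianRing A]
    (hsl : {I : Ideal A | I.IsMaximal}.Finite) (hdim : ringKrullDim A ≤ 1) : J0Fin A := by
  intro A' _ _ _ hfin
  haveI := hfin
  haveI : Algebra.IsIntegral A A' := Algebra.IsIntegral.of_finite A A'
  haveI hbot : (⊥ : Ideal A').IsPrime := Ideal.isPrime_bot
  -- nonzero primes are maximal and lie over maximal ideals
  have key : ∀ q : Ideal A', q.IsPrime → q ≠ ⊥ →
      (q.comap (algebraMap A A')).IsMaximal ∧ q.IsMaximal := by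
    intro q hq hq0
    obtain ⟨x, hxq, hx0⟩ := Submodule.exists_mem_ne_zero_of_ne_bot hq0
    have hlt : (⊥ : Ideal A').comap (algebraMap A A') < q.comap (algebraMap A A') :=
      Ideal.comap_lt_comap_of_integral_mem_sdiff bot_le ⟨hxq, by simpa using hx0⟩
        (Algebra.IsIntegral.isIntegral x)
    have hmax := isMaximal_of_lt_of_dim_le_one hdim _ _ hlt
    exact ⟨hmax, Ideal.isMaximal_of_isIntegral_of_isMaximal_comap q hmax⟩
  let M : Set (PrimeSpectrum A) := {p | p.asIdeal.IsMaximal}
  have hM : M.Finite := by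
    refine Set.Finite.of_finite_image (f := PrimeSpectrum.asIdeal) (hsl.subset ?_) ?_
    · rintro _ ⟨p, hp, rfl⟩; exact hp
    · intro p _ p' _ h; exact PrimeSpectrum.ext h
  let N : Set (PrimeSpectrum A') := {q | q.asIdeal ≠ ⊥}
  have hN : N.Finite := by
    refine (Algebra.QuasiFinite.finite_comap_preimage (R := A) (S := A') hM).subset ?_
    intro q hq
    exact (key q.asIdeal q.2 hq).1
  have hNc : IsClosed N := by
    have : N = ⋃ q ∈ N, {q} := by ext; simp
    rw [this]
    refine hN.isClosed_biUnion (fun q hq => ?_)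
    rw [PrimeSpectrum.isClosed_singleton_iff_isMaximal]
    exact (key q.asIdeal q.2 hq).2
  refine ⟨Nᶜ, hNc.isOpen_compl, ⟨⟨⊥, hbot⟩, fun h => h rfl⟩, ?_⟩
  intro q hq
  have hq0 : q.asIdeal = ⊥ := by
    by_contra h
    exact hq h
  have : q = ⟨⊥, hbot⟩ := PrimeSpectrum.ext hq0
  rw [this]
  exact isRegularLocalRing_atPrime_bot A'

end Groth.Agent.H8.J2
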