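import Mathlib
import Groth.Agent.Lib.Helper8.J2.J11

namespace Groth.Agent.H8.J2

universe u

open IsLocalRing TensorProduct

theorem j0Fin_of_isDedekindDomain (A : Type u) [CommRing A] [IsDedekindDomain A] [CharZero A] :
    J0Fin A := by
  intro A' _ _ _ hfin
  haveI := hfin
  haveI : Algebra.IsIntegral A A' := Algebra.IsIntegral.of_finite A A'
  haveI hbotp : (⊥ : Ideal A').IsPrime := Ideal.isPrime_bot
  by_cases hinj : Function.Injective (algebraMap A A')
  · haveI : Module.IsTorsionFree A A' := Module.isTorsionFree_iff_algebraMap_injective.mpr hinj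
    haveI : FaithfulSMul A A' := (faithfulSMul_iff_algebraMap_injective A A').mpr hinj
    letI : Algebra (FractionRing A) (FractionRing A') :=
      FractionRing.liftAlgebra A (FractionRing A')
    haveI : FiniteDimensional (FractionRing A) (FractionRing A') := inferInstance
    haveI : CharZero (FractionRing A) :=
      charZero_of_injective_algebraMap (IsFractionRing.injective A (FractionRing A))
    haveI : Algebra.IsSeparable (FractionRing A) (FractionRing A') := inferInstance
    haveI : IsNoetherianRing A' := Algebra.FiniteType.isNoetherianRing A A'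
    let C := integralClosure A (FractionRing A')
    haveI : IsDedekindDomain C :=
      integralClosure.isDedekindDomain A (FractionRing A) (FractionRing A')
    haveI : Module.Finite A C :=
      IsIntegralClosure.finite A (FractionRing A) (FractionRing A') C
    have hmem : ∀ x : A', algebraMap A' (FractionRing A') x ∈ C := fun x =>
      (Algebra.IsIntegral.isIntegral (R := A) x).map (IsScalarTower.toAlgHom A A' (FractionRing A'))
    let φ : A' →+* C := RingHom.codRestrict (algebraMap A' (FractionRing A')) C hmem
    letI : Algebra A' C := φ.toAlgebra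
    haveI : IsScalarTower A A' C := IsScalarTower.of_algebraMap_eq (fun x =>
      Subtype.ext (IsScalarTower.algebraMap_apply A A' (FractionRing A') x))
    haveI : Module.Finite A' C := Module.Finite.of_restrictScalars_finite A A' C
    have hinj' : Function.Injective (algebraMap A' C) := by
      intro x y hxy
      apply IsFractionRing.injective A' (FractionRing A')
      exact congrArg Subtype.val hxy
    have h1 : RegOn C 1 := fun Q _ _ => inferInstance
    obtain ⟨g, hg0, hg⟩ := regOn_descent A' C hinj' 1 one_ne_zero h1
    refine ⟨PrimeSpectrum.basicOpen g, (PrimeSpectrum.basicOpen g).isOpen, ⟨⟨⊥, hbotp⟩, ?_⟩, ?_⟩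
    · exact hg0
    · intro q hq
      exact hg q.asIdeal hq
  · have hker : RingHom.ker (algebraMap A A') ≠ ⊥ := fun h =>
      hinj ((RingHom.injective_iff_ker_eq_bot _).mpr h)
    haveI : (RingHom.ker (algebraMap A A')).IsPrime := RingHom.ker_isPrime _
    have hmax : (RingHom.ker (algebraMap A A')).IsMaximal :=
      Ideal.IsPrime.isMaximal inferInstance hker
    have hbot : (⊥ : Ideal A').IsMaximal :=
      Ideal.isMaximal_of_isIntegral_of_isMaximal_comap (R := A) ⊥ (by
        rwa [← RingHom.ker_eq_comap_bot])
    exact ⟨Set.univ, isOpen_univ, Set.univ_nonempty, by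
      rw [regLocus_eq_univ_of_bot_isMaximal A' hbot]⟩

end Groth.Agent.H8.J2
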