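import Mathlib
import Groth.Agent.Lib.Helper8.J2.J7

namespace Groth.Agent.H8.J2

universe u

open IsLocalRing TensorProduct

/-- A property of rings (to be applied to local rings of Noetherian rings), invariant under
isomorphism, ascending along smooth maps and descending along flat maps. -/
structure RingProp where
  P : ∀ (R : Type u) [CommRing R], Prop
  of_equiv : ∀ {R S : Type u} [CommRing R] [CommRing S], (R ≃+* S) → P R → P S
  smooth : ∀ (R C : Type u) [CommRing R] [CommRing C] [IsNoetherianRing R] [IsNoetherianRing C]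
      [Algebra R C] [Algebra.Smooth R C] (r : Ideal C) [r.IsPrime],
      P (Localization.AtPrime (r.comap (algebraMap R C))) → P (Localization.AtPrime r)
  flat : ∀ (R C : Type u) [CommRing R] [CommRing C] [IsNoetherianRing R] [IsNoetherianRing C]
      [Algebra R C] [Module.Flat R C] (q : Ideal C) [q.IsPrime],
      P (Localization.AtPrime q) → P (Localization.AtPrime (q.comap (algebraMap R C)))

namespace RingProp

variable (Φ : RingProp.{u})

/-- The property holds at all primes of the basic open `D(g)`. -/
def On (C : Type u) [CommRing C] (g : C) : Prop :=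
  ∀ (Q : Ideal C) [Q.IsPrime], g ∉ Q → Φ.P (Localization.AtPrime Q)

theorem congr {C : Type u} [CommRing C] (Q Q' : Ideal C) [Q.IsPrime] [Q'.IsPrime] (h : Q = Q')
    (H : Φ.P (Localization.AtPrime Q)) : Φ.P (Localization.AtPrime Q') := by
  subst h
  exact H

theorem of_isLocalization {B : Type u} [CommRing B] (M : Submonoid B)
    (C : Type u) [CommRing C] [Algebra B C] [IsLocalization M C] (Q : Ideal B) [Q.IsPrime]
    (hdisj : Disjoint (M : Set B) (Q : Set B))
    (h : ∀ (Q' : Ideal C) [Q'.IsPrime], Q'.comap (algebraMap B C) = Q →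
      Φ.P (Localization.AtPrime Q')) :
    Φ.P (Localization.AtPrime Q) := by
  let Q' : Ideal C := Q.map (algebraMap B C)
  haveI hQ' : Q'.IsPrime := IsLocalization.isPrime_of_isPrime_disjoint M C Q ‹_› hdisj
  have hQ'c : Q'.comap (algebraMap B C) = Q :=
    IsLocalization.under_map_of_isPrime_disjoint M C ‹_› hdisj
  have hP := h Q' hQ'c
  have h2 : IsLocalization.AtPrime (Localization.AtPrime Q') Q := by
    have := IsLocalization.isLocalization_isLocalization_atPrime_isLocalization
      M (Localization.AtPrime Q') Q'
    have hpc : (Q'.comap (algebraMap B C)).primeCompl = Q.primeCompl := by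
      ext a
      show a ∉ Q'.comap (algebraMap B C) ↔ a ∉ Q
      rw [hQ'c]
    change IsLocalization Q.primeCompl _
    rw [← hpc]
    exact this
  let e := IsLocalization.algEquiv Q.primeCompl (Localization.AtPrime Q') (Localization.AtPrime Q)
  exact Φ.of_equiv e.toRingEquiv hP

theorem localization_of_comap {B : Type u} [CommRing B] (M : Submonoid B)
    (C : Type u) [CommRing C] [Algebra B C] [IsLocalization M C] (Q' : Ideal C) [Q'.IsPrime]
    (hP : Φ.P (Localization.AtPrime (Q'.comap (algebraMap B C)))) :
    Φ.P (Localization.AtPrime Q') := by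
  have := IsLocalization.isLocalization_isLocalization_atPrime_isLocalization
    M (Localization.AtPrime Q') Q'
  let e := IsLocalization.algEquiv (Q'.comap (algebraMap B C)).primeCompl
    (Localization.AtPrime (Q'.comap (algebraMap B C))) (Localization.AtPrime Q')
  exact Φ.of_equiv e.toRingEquiv hP

/-- Separable case: a finite type domain `B` over a Noetherian ring `A₀`, generically formally
smooth, has the property on a nonempty basic open as soon as `A₀` has it on `D(a)`, `a ≠ 0` in `B`. -/
theorem exists_on_of_formallySmooth (A₀ B L : Type u) [CommRing A₀] [IsNoetherianRing A₀]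
    [CommRing B] [IsDomain B] [Algebra A₀ B] [Algebra.FiniteType A₀ B]
    [Field L] [Algebra B L] [IsFractionRing B L] [Algebra A₀ L] [IsScalarTower A₀ B L]
    [Algebra.FormallySmooth A₀ L]
    (a : A₀) (ha : algebraMap A₀ B a ≠ 0) (hA : Φ.On A₀ a) : ∃ g : B, g ≠ 0 ∧ Φ.On B g := by
  haveI : Algebra.FinitePresentation A₀ B := Algebra.FinitePresentation.of_finiteType.mp inferInstance
  haveI : IsNoetherianRing B := Algebra.FiniteType.isNoetherianRing A₀ B
  haveI hbp : (⊥ : Ideal B).IsPrime := Ideal.isPrime_bot
  have hcompl : (⊥ : Ideal B).primeCompl = nonZeroDivisors B := by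
    ext x
    rw [mem_nonZeroDivisors_iff_ne_zero]
    exact Iff.rfl
  haveI : IsLocalization (⊥ : Ideal B).primeCompl L := by
    rw [hcompl]; infer_instance
  haveI : Algebra.IsSmoothAt A₀ (⊥ : Ideal B) := by
    let e : L ≃ₐ[B] Localization.AtPrime (⊥ : Ideal B) :=
      IsLocalization.algEquiv (⊥ : Ideal B).primeCompl L _
    exact Algebra.FormallySmooth.of_equiv (e.restrictScalars A₀)
  obtain ⟨f, hf, hsm⟩ := Algebra.IsSmoothAt.exists_notMem_smooth A₀ (⊥ : Ideal B)
  have hf0 : f ≠ 0 := fun h => hf (by rw [h]; exact Ideal.zero_mem _)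
  set g : B := f * algebraMap A₀ B a with hg
  have hg0 : g ≠ 0 := mul_ne_zero hf0 ha
  haveI : Algebra.Smooth A₀ (Localization.Away g) := by
    rw [← Algebra.basicOpen_subset_smoothLocus_iff_smooth] at hsm ⊢
    refine subset_trans ?_ hsm
    rw [hg]
    exact PrimeSpectrum.basicOpen_mul_le_left f _
  set C := Localization.Away g
  haveI : IsNoetherianRing C := IsLocalization.isNoetherianRing (Submonoid.powers g) C inferInstance
  refine ⟨g, hg0, fun Q _ hgQ => ?_⟩
  have hdisj : Disjoint ((Submonoid.powers g : Submonoid B) : Set B) (Q : Set B) :=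
    (Ideal.disjoint_powers_iff_notMem_of_isPrime _).mpr hgQ
  refine Φ.of_isLocalization (Submonoid.powers g) C Q hdisj ?_
  intro Q' _ hQ'
  have hPA : Φ.P (Localization.AtPrime (Q'.comap (algebraMap A₀ C))) := by
    apply hA
    intro haQ
    apply hgQ
    rw [← hQ']
    have h1 : algebraMap A₀ B a ∈ Q'.comap (algebraMap B C) := by
      rw [Ideal.mem_comap, ← IsScalarTower.algebraMap_apply]
      exact haQ
    exact Ideal.mul_mem_left (Q'.comap (algebraMap B C)) f h1
  exact Φ.smooth A₀ C Q' hPA

end RingProp

end Groth.Agent.H8.J2
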