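import Mathlib
import Groth.Agent.Lib.Helper8.J2.G2
import Groth.Agent.Lib.Helper8.J2.J9

namespace Groth.Agent.H8.J2

universe u

open IsLocalRing TensorProduct

namespace RingProp

variable (Φ : RingProp.{u})

/-- Every finite domain algebra has the property on a nonempty basic open. -/
def J0 (A : Type u) [CommRing A] : Prop :=
  ∀ (A' : Type u) [CommRing A'] [IsDomain A'] [Algebra A A'], Module.Finite A A' →
    ∃ a : A', a ≠ 0 ∧ Φ.On A' a

set_option maxHeartbeats 800000 in
/-- Abstract form of the main step: a finite type domain `B` over a Noetherian domain `A₀`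
satisfying `J0Fin` is regular on a nonempty basic open, given a finite extension `E` of
`K = Frac A₀` and a field `F ⊇ E, L = Frac B`, spanned by `E` over `L`, formally smooth over `E`. -/
theorem exists_on_of_fields
    (A₀ B K L E F : Type u)
    [CommRing A₀] [IsDomain A₀] [IsNoetherianRing A₀]
    [CommRing B] [IsDomain B] [Algebra A₀ B] [Algebra.FiniteType A₀ B]
    [Field K] [Field L] [Field E] [Field F]
    [Algebra A₀ K] [IsFractionRing A₀ K]
    [Algebra B L] [IsFractionRing B L]
    [Algebra K E] [FiniteDimensional K E]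
    [Algebra E F] [Algebra L F]
    [Algebra A₀ E] [IsScalarTower A₀ K E]
    [Algebra B F] [IsScalarTower B L F]
    [Algebra A₀ F] [IsScalarTower A₀ B F] [IsScalarTower A₀ E F]
    [Algebra.FormallySmooth E F]
    (hgen : Submodule.span L (Set.range (algebraMap E F)) = ⊤)
    (h : Φ.J0 A₀) : ∃ g : B, g ≠ 0 ∧ Φ.On B g := by
  classical
  obtain ⟨s, b, hb⟩ := FiniteDimensional.exists_is_basis_integral A₀ K E
  -- the finite `A₀`-algebra `A'` with fraction field `E`
  let A' : Subalgebra A₀ E := Algebra.adjoin A₀ (Set.range b)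
  have hbA' : ∀ i, b i ∈ A' := fun i => Algebra.subset_adjoin ⟨i, rfl⟩
  haveI : Module.Finite A₀ A' := by
    have := fg_adjoin_of_finite (R := A₀) (Set.finite_range b)
      (by rintro _ ⟨i, rfl⟩; exact hb i)
    exact Module.Finite.of_fg this
  have hfracE : ∀ z : E, FracPred A' z := by
    intro z
    have hz : z ∈ Submodule.span K (Set.range b) := by rw [b.span_eq]; trivial
    refine Submodule.span_induction ?_ ?_ ?_ ?_ hz
    · rintro _ ⟨i, rfl⟩; exact FracPred.of_mem (hbA' i)
    · exact FracPred.of_mem A'.zero_mem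
    · intro x y _ _ hx hy; exact hx.add hy
    · intro k x _ hx
      rw [Algebra.smul_def]
      refine FracPred.mul ?_ hx
      obtain ⟨a, d, hd, rfl⟩ := IsFractionRing.div_surjective (A := A₀) k
      rw [map_div₀, ← IsScalarTower.algebraMap_apply, ← IsScalarTower.algebraMap_apply]
      exact FracPred.div (FracPred.of_mem (A'.algebraMap_mem a)) (FracPred.of_mem (A'.algebraMap_mem d))
  haveI : IsFractionRing A' E := isFractionRing_of_fracPred A' hfracE
  haveI : IsNoetherianRing A' := Algebra.FiniteType.isNoetherianRing A₀ A'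
  haveI : IsNoetherianRing B := Algebra.FiniteType.isNoetherianRing A₀ B
  -- `B' := B[b_i]` inside `F`
  let B' : Subalgebra B F := Algebra.adjoin B ((algebraMap E F) '' Set.range b)
  have hintB : ∀ i, IsIntegral B (algebraMap E F (b i)) := by
    intro i
    exact IsIntegral.map_of_comp_eq (algebraMap A₀ B) (algebraMap E F) (by
      rw [← IsScalarTower.algebraMap_eq, ← IsScalarTower.algebraMap_eq]) (hb i)
  haveI : Module.Finite B B' := by
    have := fg_adjoin_of_finite (R := B) ((Set.finite_range b).image (algebraMap E F)) (by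
      rintro _ ⟨_, ⟨i, rfl⟩, rfl⟩; exact hintB i)
    exact Module.Finite.of_fg this
  have hinjBF : Function.Injective (algebraMap B F) := by
    rw [IsScalarTower.algebraMap_eq B L F]
    exact (algebraMap L F).injective.comp (IsFractionRing.injective B L)
  have hinj' : Function.Injective (algebraMap B B') := by
    intro x y hxy
    apply hinjBF
    have := congrArg (Subtype.val) hxy
    exact this
  have hA'B' : ∀ x : A', algebraMap E F (x : E) ∈ B' := by
    rintro ⟨x, hx⟩
    refine Algebra.adjoin_induction (p := fun x _ => algebraMap E F x ∈ B') ?_ ?_ ?_ ?_ hx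
    · rintro _ ⟨i, rfl⟩
      exact Algebra.subset_adjoin ⟨_, ⟨i, rfl⟩, rfl⟩
    · intro r
      rw [← IsScalarTower.algebraMap_apply, IsScalarTower.algebraMap_apply A₀ B F]
      exact B'.algebraMap_mem _
    · intro x y _ _ hx hy
      rw [map_add]; exact B'.add_mem hx hy
    · intro x y _ _ hx hy
      rw [map_mul]; exact B'.mul_mem hx hy
  let φ : A' →+* B' := RingHom.codRestrict ((algebraMap E F).comp A'.val.toRingHom) B' hA'B'
  letI : Algebra A' B' := φ.toAlgebra
  haveI : IsScalarTower A' B' F := IsScalarTower.of_algebraMap_eq (fun x => rfl)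
  haveI : IsScalarTower A₀ A' B' := IsScalarTower.of_algebraMap_eq (fun x => by
    apply Subtype.ext
    show algebraMap A₀ F x = algebraMap E F (algebraMap A₀ E x)
    rw [← IsScalarTower.algebraMap_apply])
  haveI : Algebra.FiniteType B B' := inferInstance
  haveI : Algebra.FiniteType A₀ B' :=
    Algebra.FiniteType.trans (R := A₀) (S := B) (A := B') inferInstance inferInstance
  haveI : Algebra.FiniteType A' B' := Algebra.FiniteType.of_restrictScalars_finiteType A₀ A' B'
  have hfracF : ∀ z : F, FracPred B' z := by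
    intro z
    have hz : z ∈ Submodule.span L (Set.range (algebraMap E F)) := by rw [hgen]; trivial
    refine Submodule.span_induction ?_ ?_ ?_ ?_ hz
    · rintro _ ⟨e, rfl⟩
      obtain ⟨x, y, hx, hy, hy0, rfl⟩ := hfracE e
      rw [map_div₀]
      exact FracPred.div (FracPred.of_mem (hA'B' ⟨x, hx⟩)) (FracPred.of_mem (hA'B' ⟨y, hy⟩))
    · exact FracPred.of_mem B'.zero_mem
    · intro x y _ _ hx hy; exact hx.add hy
    · intro l x _ hx
      rw [Algebra.smul_def]
      refine FracPred.mul ?_ hx
      obtain ⟨p, q, hq, rfl⟩ := IsFractionRing.div_surjective (A := B) l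
      rw [map_div₀, ← IsScalarTower.algebraMap_apply, ← IsScalarTower.algebraMap_apply]
      exact FracPred.div (FracPred.of_mem (B'.algebraMap_mem p)) (FracPred.of_mem (B'.algebraMap_mem q))
  haveI : IsFractionRing B' F := isFractionRing_of_fracPred B' hfracF
  haveI : Algebra.FormallySmooth A' E := Algebra.FormallySmooth.of_isLocalization (nonZeroDivisors A')
  haveI : Algebra.FormallySmooth A' F := Algebra.FormallySmooth.comp A' E F
  obtain ⟨a', ha'0, ha'⟩ := h A' inferInstance
  have hinjA'B' : Function.Injective (algebraMap A' B') := by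
    intro x y hxy
    apply Subtype.ext
    apply (algebraMap E F).injective
    exact congrArg Subtype.val hxy
  have ha'B' : algebraMap A' B' a' ≠ 0 := by
    intro h0
    apply ha'0
    apply hinjA'B'
    rw [h0, map_zero]
  obtain ⟨g', hg'0, hg'⟩ := Φ.exists_on_of_formallySmooth A' B' F a' ha'B' ha'
  exact Φ.on_descent B B' hinj' g' hg'0 hg'


set_option maxHeartbeats 800000 in
theorem exists_on_of_j0_inj (A₀ B : Type u) [CommRing A₀] [IsDomain A₀] [IsNoetherianRing A₀]
    [CommRing B] [IsDomain B] [Algebra A₀ B] [Algebra.FiniteType A₀ B]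
    (hinj : Function.Injective (algebraMap A₀ B)) (h : Φ.J0 A₀) :
    ∃ g : B, g ≠ 0 ∧ Φ.On B g := by
  haveI : FaithfulSMul A₀ B := (faithfulSMul_iff_algebraMap_injective A₀ B).mpr hinj
  letI : Algebra (FractionRing A₀) (FractionRing B) := FractionRing.liftAlgebra A₀ (FractionRing B)
  haveI : Algebra.EssFiniteType B (FractionRing B) :=
    Algebra.EssFiniteType.of_isLocalization (FractionRing B) (nonZeroDivisors B)
  haveI : Algebra.EssFiniteType A₀ (FractionRing B) :=
    Algebra.EssFiniteType.comp A₀ B (FractionRing B)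
  haveI : Algebra.EssFiniteType (FractionRing A₀) (FractionRing B) :=
    Algebra.EssFiniteType.of_comp A₀ (FractionRing A₀) (FractionRing B)
  obtain ⟨E, F, _, _, _, _, _, _, _, _, _, hfs, hgen⟩ :=
    exists_fields (FractionRing A₀) (FractionRing B)
  letI : Algebra A₀ E := ((algebraMap (FractionRing A₀) E).comp (algebraMap A₀ (FractionRing A₀))).toAlgebra
  haveI : IsScalarTower A₀ (FractionRing A₀) E := IsScalarTower.of_algebraMap_eq (fun _ => rfl)
  letI : Algebra B F := ((algebraMap (FractionRing B) F).comp (algebraMap B (FractionRing B))).toAlgebra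
  haveI : IsScalarTower B (FractionRing B) F := IsScalarTower.of_algebraMap_eq (fun _ => rfl)
  letI : Algebra A₀ F := ((algebraMap E F).comp (algebraMap A₀ E)).toAlgebra
  haveI : IsScalarTower A₀ E F := IsScalarTower.of_algebraMap_eq (fun _ => rfl)
  haveI : IsScalarTower A₀ B F := IsScalarTower.of_algebraMap_eq (fun x => by
    show algebraMap E F (algebraMap (FractionRing A₀) E (algebraMap A₀ (FractionRing A₀) x)) =
      algebraMap (FractionRing B) F (algebraMap B (FractionRing B) (algebraMap A₀ B x))
    rw [← IsScalarTower.algebraMap_apply (FractionRing A₀) E F,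
      IsScalarTower.algebraMap_apply (FractionRing A₀) (FractionRing B) F,
      ← IsScalarTower.algebraMap_apply A₀ (FractionRing A₀) (FractionRing B),
      IsScalarTower.algebraMap_apply A₀ B (FractionRing B)])
  exact Φ.exists_on_of_fields A₀ B (FractionRing A₀) (FractionRing B) E F hgen h

theorem J0.quotient {A : Type u} [CommRing A] (h : Φ.J0 A) (I : Ideal A) : Φ.J0 (A ⧸ I) := by
  intro A' _ _ _ hfin
  letI : Algebra A A' := ((algebraMap (A ⧸ I) A').comp (Ideal.Quotient.mk I)).toAlgebra
  haveI : IsScalarTower A (A ⧸ I) A' := IsScalarTower.of_algebraMap_eq (fun _ => rfl)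
  haveI : Module.Finite A A' := Module.Finite.trans (A ⧸ I) A'
  exact h A' inferInstance

theorem exists_on_of_j0 (A B : Type u) [CommRing A] [IsNoetherianRing A]
    [CommRing B] [IsDomain B] [Algebra A B] [Algebra.FiniteType A B] (h : Φ.J0 A) :
    ∃ g : B, g ≠ 0 ∧ Φ.On B g := by
  let I : Ideal A := RingHom.ker (algebraMap A B)
  haveI : I.IsPrime := RingHom.ker_isPrime _
  letI : Algebra (A ⧸ I) B := (RingHom.kerLift (algebraMap A B)).toAlgebra
  haveI : IsScalarTower A (A ⧸ I) B := IsScalarTower.of_algebraMap_eq (fun _ => rfl)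
  haveI : Algebra.FiniteType (A ⧸ I) B := Algebra.FiniteType.of_restrictScalars_finiteType A (A ⧸ I) B
  exact Φ.exists_on_of_j0_inj (A ⧸ I) B (RingHom.kerLift_injective _) (J0.quotient Φ h I)


end RingProp

end Groth.Agent.H8.J2
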