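import Mathlib
import Groth.Agent.Lib.Helper8.J2.G3
import Groth.Agent.Lib.Helper8.SmoothNormalRing

namespace Groth.Agent.H8.J2

universe u

open IsLocalRing TensorProduct

/-- Normality (integrally closed domain) as a `RingProp`. -/
def norProp : RingProp.{u} where
  P R _ := IsDomain R ∧ IsIntegrallyClosed R
  of_equiv := by
    intro R S _ _ e h
    obtain ⟨h1, h2⟩ := h
    exact ⟨e.symm.toMulEquiv.isDomain _, @IsIntegrallyClosed.of_equiv R S _ _ e h2⟩
  smooth := by
    intro R C _ _ _ _ _ _ r _ h
    obtain ⟨h1, h2⟩ := h
    exact Groth.Agent.H8.SmNR.normal_localization_of_smooth R C r _ rfl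
  flat := by
    intro R C _ _ _ _ _ _ q _ h
    obtain ⟨h1, h2⟩ := h
    haveI : q.LiesOver (q.comap (algebraMap R C)) := ⟨rfl⟩
    exact Groth.Agent.H8.SmNR.normal_localization_of_flat R C q _

/-- Regularity as a `RingProp`. -/
def regProp : RingProp.{u} where
  P R _ := IsRegularLocalRing R
  of_equiv := by
    intro R S _ _ e h
    exact @IsRegularLocalRing.of_ringEquiv R _ h S _ e
  smooth := by
    intro R C _ _ _ _ _ _ r _ h
    haveI := h
    exact isRegularLocalRing_of_smooth R C r
  flat := by
    intro R C _ _ _ _ _ _ q _ h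
    haveI := h
    let p := q.comap (algebraMap R C)
    haveI : q.LiesOver p := ⟨rfl⟩
    letI := Localization.AtPrime.algebraOfLiesOver p q
    haveI : IsLocalHom (algebraMap (Localization.AtPrime p) (Localization.AtPrime q)) :=
      Localization.isLocalHom_localRingHom _ _ _ Ideal.LiesOver.over
    haveI : IsNoetherianRing (Localization.AtPrime p) :=
      IsLocalization.isNoetherianRing p.primeCompl _ inferInstance
    exact Groth.Agent.H1.Reg.isRegularLocalRing_of_flat (Localization.AtPrime p)
      (Localization.AtPrime q)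

end Groth.Agent.H8.J2
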