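import Mathlib
import Groth.Agent.Lib.Helper8.J2.N1
import Groth.Agent.Lib.Helper8.J2.J12

namespace Groth.Agent.H8.J2

universe u

open IsLocalRing TensorProduct

theorem RingProp.on_of_ringEquiv (Φ : RingProp.{u}) {R S : Type u} [CommRing R] [CommRing S]
    (e : R ≃+* S) (a : R) (h : Φ.On R a) : Φ.On S (e a) := by
  intro Q _ haQ
  let Q' : Ideal R := Q.comap (e : R →+* S)
  haveI : Q'.IsPrime := Ideal.comap_isPrime _ _
  have haQ' : a ∉ Q' := haQ
  have hP := h Q' haQ'
  have H : Q'.primeCompl.map e.toMonoidHom = Q.primeCompl := by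
    ext x
    constructor
    · rintro ⟨y, hy, rfl⟩
      exact hy
    · intro hx
      refine ⟨e.symm x, ?_, e.apply_symm_apply x⟩
      show e.symm x ∉ Q'
      intro h'
      apply hx
      have : e (e.symm x) ∈ Q := h'
      rwa [e.apply_symm_apply] at this
  exact Φ.of_equiv (IsLocalization.ringEquivOfRingEquiv (Localization.AtPrime Q')
    (Localization.AtPrime Q) e H) hP

theorem regOn_iff (C : Type u) [CommRing C] (g : C) : RegOn C g ↔ regProp.On C g := Iff.rfl

/-- S4700 -/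
theorem isOpen_regLocus_of_nhds (A : Type u) [CommRing A] [IsNoetherianRing A]
    (h : ∀ p : PrimeSpectrum A, p ∈ EGA4.regLocus A →
      ∃ U : Set (PrimeSpectrum (A ⧸ p.asIdeal)), IsOpen U ∧ U.Nonempty ∧
        U ⊆ EGA4.regLocus (A ⧸ p.asIdeal)) :
    IsOpen (EGA4.regLocus A) := by
  apply isOpen_regLocus_of_quotients
  intro P _ hP
  obtain ⟨U, hU, hne, hreg⟩ := h ⟨P, inferInstance⟩ hP
  obtain ⟨a, ha0, ha⟩ := exists_regOn_of_open U hU hne hreg
  obtain ⟨f, rfl⟩ := Ideal.Quotient.mk_surjective a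
  refine ⟨f, ?_, ha⟩
  intro hf
  exact ha0 (Ideal.Quotient.eq_zero_iff_mem.mpr hf)

/-- S4701 -/
theorem isOpen_regLocus_quotients_iff (A : Type u) [CommRing A] [IsNoetherianRing A] :
    (∀ I : Ideal A, IsOpen (EGA4.regLocus (A ⧸ I))) ↔
      ∀ (p : Ideal A) [p.IsPrime],
        ∃ U : Set (PrimeSpectrum (A ⧸ p)), IsOpen U ∧ U.Nonempty ∧ U ⊆ EGA4.regLocus (A ⧸ p) := by
  constructor
  · intro h p _
    exact ⟨EGA4.regLocus (A ⧸ p), h p, ⟨⟨⊥, Ideal.isPrime_bot⟩,
      isRegularLocalRing_atPrime_bot (A ⧸ p)⟩, subset_rfl⟩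
  · intro h I
    apply isOpen_regLocus_of_quotients
    intro P _ hP
    let p : Ideal A := P.comap (Ideal.Quotient.mk I)
    haveI : p.IsPrime := Ideal.comap_isPrime _ _
    obtain ⟨U, hU, hne, hreg⟩ := h p
    obtain ⟨a, ha0, ha⟩ := exists_regOn_of_open U hU hne hreg
    have hIp : I ≤ p := by
      intro x hx
      show Ideal.Quotient.mk I x ∈ P
      rw [Ideal.Quotient.eq_zero_iff_mem.mpr hx]
      exact P.zero_mem
    have hmap : p.map (Ideal.Quotient.mk I) = P :=
      Ideal.map_comap_of_surjective _ Ideal.Quotient.mk_surjective P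
    let e : (A ⧸ p) ≃+* ((A ⧸ I) ⧸ P) :=
      (DoubleQuot.quotQuotEquivQuotOfLE hIp).symm.trans (Ideal.quotEquivOfEq hmap)
    have ha' := (regProp.on_of_ringEquiv e a ha)
    obtain ⟨f, hf⟩ := Ideal.Quotient.mk_surjective (e a)
    refine ⟨f, ?_, ?_⟩
    · intro hfP
      have : e a = 0 := by rw [← hf]; exact Ideal.Quotient.eq_zero_iff_mem.mpr hfP
      exact ha0 (e.injective (this.trans (map_zero e).symm))
    · rw [hf]; exact ha'

end Groth.Agent.H8.J2
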