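import Mathlib
import Groth.Agent.Lib.Helper8.J2.N1

namespace Groth.Agent.H8.J2

universe u

open IsLocalRing TensorProduct

section nchar

variable (B : Type u) [CommRing B] [IsDomain B]

/-- Characterization of normality of `B_p` (for a domain `B`) in terms of elements of `Frac B`
integral over `B`. -/
theorem isIntegrallyClosed_atPrime_iff (p : Ideal B) [p.IsPrime] :
    IsIntegrallyClosed (Localization.AtPrime p) ↔
      ∀ x : FractionRing B, IsIntegral B x → ∃ s : B, s ∉ p ∧ ∃ r : B,
        algebraMap B (FractionRing B) s * x = algebraMap B (FractionRing B) r := by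
  constructor
  · intro h x hx
    have hx' : IsIntegral (Localization.AtPrime p) x := hx.tower_top
    obtain ⟨y, hy⟩ := (isIntegrallyClosed_iff (FractionRing B)).mp h hx'
    obtain ⟨r, s, rfl⟩ := IsLocalization.exists_mk'_eq p.primeCompl y
    refine ⟨s, s.2, r, ?_⟩
    have h1 := IsLocalization.mk'_spec' (Localization.AtPrime p) r s
    have h2 := congrArg (algebraMap (Localization.AtPrime p) (FractionRing B)) h1
    rw [map_mul, hy, ← IsScalarTower.algebraMap_apply, ← IsScalarTower.algebraMap_apply] at h2
    exact h2
  · intro h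
    rw [isIntegrallyClosed_iff (FractionRing B)]
    intro x hx
    obtain ⟨m, hm⟩ := IsIntegral.exists_multiple_integral_of_isLocalization p.primeCompl x hx
    obtain ⟨s, hs, r, hr⟩ := h _ hm
    have hsm : s * (m : B) ∈ p.primeCompl := p.primeCompl.mul_mem hs m.2
    refine ⟨IsLocalization.mk' (Localization.AtPrime p) r ⟨s * m, hsm⟩, ?_⟩
    have hne : algebraMap B (FractionRing B) (s * m) ≠ 0 := by
      intro h0
      have := (IsFractionRing.injective B (FractionRing B)) (h0.trans (map_zero _).symm)
      exact hsm (this ▸ p.zero_mem)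
    apply mul_left_cancel₀ hne
    have h1 := IsLocalization.mk'_spec' (Localization.AtPrime p) r (⟨s * m, hsm⟩ : p.primeCompl)
    have h2 := congrArg (algebraMap (Localization.AtPrime p) (FractionRing B)) h1
    rw [map_mul, ← IsScalarTower.algebraMap_apply, ← IsScalarTower.algebraMap_apply] at h2
    rw [h2, ← hr, map_mul, Submonoid.smul_def, Algebra.smul_def, mul_assoc]

/-- Normality is stable under generization (domain case). -/
theorem isIntegrallyClosed_atPrime_of_le (q p : Ideal B) [q.IsPrime] [p.IsPrime] (hqp : q ≤ p)
    (h : IsIntegrallyClosed (Localization.AtPrime p)) :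
    IsIntegrallyClosed (Localization.AtPrime q) := by
  rw [isIntegrallyClosed_atPrime_iff] at h ⊢
  intro x hx
  obtain ⟨s, hs, r, hr⟩ := h x hx
  exact ⟨s, fun hsq => hs (hqp hsq), r, hr⟩

/-- The denominator ideal of an element of the fraction field. -/
noncomputable def denom (x : FractionRing B) : Ideal B :=
  (1 : Submodule B (FractionRing B)).colon {x}

theorem mem_denom (x : FractionRing B) (b : B) :
    b ∈ denom B x ↔ ∃ r : B, algebraMap B (FractionRing B) b * x = algebraMap B (FractionRing B) r := by
  rw [denom, Submodule.mem_colon_singleton, Submodule.mem_one, Algebra.smul_def]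
  constructor
  · rintro ⟨r, hr⟩; exact ⟨r, hr.symm⟩
  · rintro ⟨r, hr⟩; exact ⟨r, hr.symm⟩

end nchar

end Groth.Agent.H8.J2
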