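import Mathlib
import Groth.Agent.Lib.Helper8.J2.N2

namespace Groth.Agent.H8.J2

universe u

open IsLocalRing TensorProduct

section asspow

variable (B : Type u) [CommRing B] [IsDomain B]

/-- `Ass(B/gⁿ) ⊆ Ass(B/g)` for a nonzero element `g` of a domain. -/
theorem associatedPrimes_pow_subset (g : B) (hg0 : g ≠ 0) (n : ℕ) :
    associatedPrimes B (B ⧸ Ideal.span {g ^ n}) ⊆ associatedPrimes B (B ⧸ Ideal.span {g}) := by
  induction n with
  | zero =>
    have : Subsingleton (B ⧸ Ideal.span {g ^ 0}) := by
      rw [pow_zero, Ideal.span_singleton_one]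
      exact Ideal.Quotient.subsingleton_iff.mpr rfl
    rw [associatedPrimes.eq_empty_of_subsingleton]
    exact Set.empty_subset _
  | succ n ih =>
    have h1 : (Ideal.span {g ^ n} : Submodule B B) ≤
        Submodule.comap (LinearMap.mulLeft B g) (Ideal.span {g ^ (n + 1)} : Submodule B B) := by
      intro b hb
      rw [Ideal.mem_span_singleton'] at hb
      obtain ⟨t, rfl⟩ := hb
      show g * (t * g ^ n) ∈ Ideal.span {g ^ (n + 1)}
      rw [Ideal.mem_span_singleton']
      exact ⟨t, by ring⟩
    have h2 : (Ideal.span {g ^ (n + 1)} : Submodule B B) ≤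
        Submodule.comap (LinearMap.id : B →ₗ[B] B) (Ideal.span {g} : Submodule B B) := by
      intro b hb
      rw [Ideal.mem_span_singleton'] at hb
      obtain ⟨t, rfl⟩ := hb
      show t * g ^ (n + 1) ∈ Ideal.span {g}
      rw [Ideal.mem_span_singleton']
      exact ⟨t * g ^ n, by ring⟩
    let f : (B ⧸ Ideal.span {g ^ n}) →ₗ[B] (B ⧸ Ideal.span {g ^ (n + 1)}) :=
      Submodule.mapQ _ _ (LinearMap.mulLeft B g) h1
    let f' : (B ⧸ Ideal.span {g ^ (n + 1)}) →ₗ[B] (B ⧸ Ideal.span {g}) :=
      Submodule.mapQ _ _ LinearMap.id h2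
    have hf : Function.Injective f := by
      rw [← LinearMap.ker_eq_bot, LinearMap.ker_eq_bot']
      intro y hy
      obtain ⟨b, rfl⟩ := Submodule.Quotient.mk_surjective _ y
      have : Submodule.Quotient.mk (p := Ideal.span {g ^ (n + 1)}) (g * b) = 0 := hy
      rw [Submodule.Quotient.mk_eq_zero, Ideal.mem_span_singleton'] at this
      obtain ⟨t, ht⟩ := this
      rw [Submodule.Quotient.mk_eq_zero, Ideal.mem_span_singleton']
      refine ⟨t, mul_left_cancel₀ hg0 ?_⟩
      rw [← ht]; ring
    have hff' : Function.Exact f f' := by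
      intro y
      obtain ⟨b, rfl⟩ := Submodule.Quotient.mk_surjective _ y
      constructor
      · intro hy
        have : Submodule.Quotient.mk (p := Ideal.span {g}) b = 0 := hy
        rw [Submodule.Quotient.mk_eq_zero, Ideal.mem_span_singleton'] at this
        obtain ⟨t, rfl⟩ := this
        refine ⟨Submodule.Quotient.mk t, ?_⟩
        show Submodule.Quotient.mk (g * t) = _
        rw [mul_comm]
      · rintro ⟨z, hz⟩
        obtain ⟨t, rfl⟩ := Submodule.Quotient.mk_surjective _ z
        have : Submodule.Quotient.mk (p := Ideal.span {g ^ (n + 1)}) (g * t) =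
            Submodule.Quotient.mk b := hz
        show Submodule.Quotient.mk (p := Ideal.span {g}) b = 0
        rw [Submodule.Quotient.eq] at this
        rw [Submodule.Quotient.mk_eq_zero]
        have h3 : g * t - b ∈ Ideal.span {g} := h2 this
        have h4 : g * t ∈ Ideal.span {g} := Ideal.mul_mem_right _ _ (Ideal.mem_span_singleton_self g)
        have := (Ideal.span {g}).sub_mem h4 h3
        simpa using this
    refine (associatedPrimes.subset_union_of_exact hf hff').trans ?_
    exact Set.union_subset ih subset_rfl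

end asspow

end Groth.Agent.H8.J2
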