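import Mathlib
import Groth.Agent.Lib.Helper8.J2.R1

namespace Groth.Agent.H8.J2

universe u

open IsLocalRing TensorProduct

/-- S9296 -/
theorem isOpen_regLocus_iff_nhds_in_closure (R : Type u) [CommRing R] [IsNoetherianRing R] :
    IsOpen (EGA4.regLocus R) ↔
      ∀ p ∈ EGA4.regLocus R, ∃ U : Set (PrimeSpectrum R), IsOpen U ∧
        (U ∩ PrimeSpectrum.zeroLocus (p.asIdeal : Set R)).Nonempty ∧
        U ∩ PrimeSpectrum.zeroLocus (p.asIdeal : Set R) ⊆ EGA4.regLocus R := by
  constructor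
  · intro h p hp
    refine ⟨EGA4.regLocus R, h, ⟨p, hp, ?_⟩, Set.inter_subset_left⟩
    rw [PrimeSpectrum.mem_zeroLocus]
  · intro h
    apply isOpen_of_nagata
    · intro x y hxy hy
      haveI : IsRegularLocalRing (Localization.AtPrime y.asIdeal) := hy
      exact isRegularLocalRing_of_le x.asIdeal y.asIdeal hxy
    · intro x hx
      obtain ⟨U, hU, ⟨y, hyU, hyx⟩, hsub⟩ := h x hx
      rw [PrimeSpectrum.mem_zeroLocus, SetLike.coe_subset_coe] at hyx
      have hxU : x ∈ U := by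
        have hspec : x ⤳ y := (PrimeSpectrum.le_iff_specializes x y).mp hyx
        exact hspec.mem_open hU hyU
      obtain ⟨_, ⟨_, ⟨f, rfl⟩, rfl⟩, hxf, hf⟩ :=
        PrimeSpectrum.isBasis_basic_opens.exists_subset_of_mem_open hxU hU
      refine ⟨f, hxf, fun z hxz hfz => hsub ⟨hf hfz, ?_⟩⟩
      rw [PrimeSpectrum.mem_zeroLocus, SetLike.coe_subset_coe]
      exact hxz

end Groth.Agent.H8.J2
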