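import Mathlib
import Groth.Agent.Lib.Helper8.J2.R2
import Groth.Prelude.Def_Found

namespace Groth.Agent.H8.J2

universe u

open IsLocalRing TensorProduct

set_option maxHeartbeats 800000 in
/-- A finite domain algebra over a Nagata ring of dimension `≤ 1` is regular on a nonempty open. -/
theorem j0Fin_of_isNagata_dim_le_one (R : Type u) [CommRing R] (hR : CAlg.IsNagata R)
    (hdim : ringKrullDim R ≤ 1) : J0Fin R := by
  intro A' _ _ _ hfin
  haveI := hfin
  haveI : IsNoetherianRing R := hR.1
  haveI : Algebra.IsIntegral R A' := Algebra.IsIntegral.of_finite R A'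
  haveI hbotp : (⊥ : Ideal A').IsPrime := Ideal.isPrime_bot
  let p : Ideal R := RingHom.ker (algebraMap R A')
  haveI hp : p.IsPrime := RingHom.ker_isPrime _
  by_cases hmax : p.IsMaximal
  · have hbot : (⊥ : Ideal A').IsMaximal :=
      Ideal.isMaximal_of_isIntegral_of_isMaximal_comap (R := R) ⊥ (by
        rwa [← RingHom.ker_eq_comap_bot])
    exact ⟨Set.univ, isOpen_univ, Set.univ_nonempty, by
      rw [regLocus_eq_univ_of_bot_isMaximal A' hbot]⟩
  · letI : Algebra (R ⧸ p) A' := (RingHom.kerLift (algebraMap R A')).toAlgebra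
    haveI : IsScalarTower R (R ⧸ p) A' := IsScalarTower.of_algebraMap_eq (fun _ => rfl)
    haveI : Module.Finite (R ⧸ p) A' := Module.Finite.of_restrictScalars_finite R (R ⧸ p) A'
    have hinj : Function.Injective (algebraMap (R ⧸ p) A') := RingHom.kerLift_injective _
    have hdim₀ : ringKrullDim (R ⧸ p) ≤ 1 := (ringKrullDim_quotient_le p).trans hdim
    haveI : Ring.DimensionLEOne (R ⧸ p) := ⟨fun {q} hq0 hqp => by
      haveI := hqp
      haveI : (⊥ : Ideal (R ⧸ p)).IsPrime := Ideal.isPrime_bot
      exact isMaximal_of_lt_of_dim_le_one hdim₀ ⊥ q (bot_lt_iff_ne_bot.mpr hq0)⟩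
    haveI : Module.IsTorsionFree (R ⧸ p) A' := Module.isTorsionFree_iff_algebraMap_injective.mpr hinj
    haveI : FaithfulSMul (R ⧸ p) A' := (faithfulSMul_iff_algebraMap_injective (R ⧸ p) A').mpr hinj
    letI : Algebra (FractionRing (R ⧸ p)) (FractionRing A') :=
      FractionRing.liftAlgebra (R ⧸ p) (FractionRing A')
    haveI hfd : FiniteDimensional (FractionRing (R ⧸ p)) (FractionRing A') := inferInstance
    haveI : IsNoetherianRing A' := Algebra.FiniteType.isNoetherianRing R A'
    have hN2 := hR.2 p
    have hCfin : Module.Finite (R ⧸ p) (integralClosure (R ⧸ p) (FractionRing A')) :=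
      hN2 (FractionRing A') hfd
    let C := integralClosure (R ⧸ p) (FractionRing A')
    haveI : Module.Finite (R ⧸ p) C := hCfin
    haveI : IsNoetherianRing C := Algebra.FiniteType.isNoetherianRing (R ⧸ p) C
    haveI : Ring.DimensionLEOne C := inferInstance
    haveI : IsIntegrallyClosed C :=
      integralClosure.isIntegrallyClosedOfFiniteExtension (FractionRing (R ⧸ p))
    haveI : IsDedekindDomain C :=
      { (inferInstance : IsDomain C), (inferInstance : IsNoetherianRing C),
        (inferInstance : Ring.DimensionLEOne C), (inferInstance : IsIntegrallyClosed C) with }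
    have hmem : ∀ x : A', algebraMap A' (FractionRing A') x ∈ C := fun x =>
      (Algebra.IsIntegral.isIntegral (R := R ⧸ p) x).map
        (IsScalarTower.toAlgHom (R ⧸ p) A' (FractionRing A'))
    let φ : A' →+* C := RingHom.codRestrict (algebraMap A' (FractionRing A')) C hmem
    letI : Algebra A' C := φ.toAlgebra
    haveI : IsScalarTower (R ⧸ p) A' C := IsScalarTower.of_algebraMap_eq (fun x =>
      Subtype.ext (IsScalarTower.algebraMap_apply (R ⧸ p) A' (FractionRing A') x))
    haveI : Module.Finite A' C := Module.Finite.of_restrictScalars_finite (R ⧸ p) A' C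
    have hinj' : Function.Injective (algebraMap A' C) := by
      intro x y hxy
      apply IsFractionRing.injective A' (FractionRing A')
      exact congrArg Subtype.val hxy
    have h1 : RegOn C 1 := fun Q _ _ => inferInstance
    obtain ⟨g, hg0, hg⟩ := regOn_descent A' C hinj' 1 one_ne_zero h1
    refine ⟨PrimeSpectrum.basicOpen g, (PrimeSpectrum.basicOpen g).isOpen, ⟨⟨⊥, hbotp⟩, ?_⟩, ?_⟩
    · exact hg0
    · intro q hq
      exact hg q.asIdeal hq

end Groth.Agent.H8.J2
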