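import Mathlib
import Groth.Agent.Lib.Helper8.J2.R3
import Groth.Agent.Lib.Helper1.GenFreeLoc

namespace Groth.Agent.H8.J2

universe u

open IsLocalRing TensorProduct

attribute [local instance] Algebra.TensorProduct.rightAlgebra in
/-- Descent of the generic property along an injective finite type map of domains. -/
theorem RingProp.on_descent_finiteType (Φ : RingProp.{u}) (B B' : Type u) [CommRing B] [IsDomain B]
    [IsNoetherianRing B] [CommRing B'] [IsDomain B'] [Algebra B B'] [Algebra.FiniteType B B']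
    (hinj : Function.Injective (algebraMap B B')) (h : Φ.On B' 1) :
    ∃ r : B, r ≠ 0 ∧ Φ.On B r := by
  obtain ⟨f, hf0, hgood⟩ := Groth.Agent.H1.GenFree.exists_good (R := B) (S := B') (M := B') 1 one_ne_zero
  set r : B := 1 * f with hr
  haveI hfree : Module.Free (Localization.Away r) (Localization.Away r ⊗[B] B') :=
    hgood.free_tensor_self
  refine ⟨r, hf0, fun Q _ hrQ => ?_⟩
  set B₁ := Localization.Away r
  set B'₁ := B₁ ⊗[B] B'
  -- `B'₁` is a nontrivial localization of `B'`
  let M' := Algebra.algebraMapSubmonoid B' (Submonoid.powers r)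
  have hloc : IsLocalization M' B'₁ := inferInstance
  have hM' : M' ≤ nonZeroDivisors B' := by
    rintro _ ⟨a, ⟨n, rfl⟩, rfl⟩
    rw [mem_nonZeroDivisors_iff_ne_zero, map_pow]
    apply pow_ne_zero
    intro h0
    exact hf0 (hinj (h0.trans (map_zero _).symm))
  haveI : Nontrivial B'₁ :=
    (IsLocalization.injective B'₁ hM').nontrivial
  haveI : Module.FaithfullyFlat B₁ B'₁ := inferInstance
  -- the prime of `B₁` above `Q`
  have hdisj : Disjoint ((Submonoid.powers r : Submonoid B) : Set B) (Q : Set B) :=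
    (Ideal.disjoint_powers_iff_notMem_of_isPrime _).mpr hrQ
  let Q₁ : Ideal B₁ := Q.map (algebraMap B B₁)
  haveI hQ₁ : Q₁.IsPrime := IsLocalization.isPrime_of_isPrime_disjoint _ B₁ Q ‹_› hdisj
  have hQ₁c : Q₁.comap (algebraMap B B₁) = Q :=
    IsLocalization.under_map_of_isPrime_disjoint _ B₁ ‹_› hdisj
  obtain ⟨Q'₁, hQ'₁p, hQ'₁o⟩ := Ideal.exists_isPrime_liesOver_of_faithfullyFlat (B := B'₁) Q₁
  haveI := hQ'₁p
  let Q' : Ideal B' := Q'₁.comap (algebraMap B' B'₁)
  haveI : Q'.IsPrime := Ideal.comap_isPrime _ _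
  have hQ'c : Q'.comap (algebraMap B B') = Q := by
    rw [← hQ₁c, hQ'₁o.over]
    simp only [Q', Ideal.under_def, Ideal.comap_comap]
    congr 1
    ext b
    simp only [RingHom.coe_comp, Function.comp_apply]
    rw [← IsScalarTower.algebraMap_apply, ← IsScalarTower.algebraMap_apply]
  have hrQ' : algebraMap B B' r ∉ Q' := by
    intro h'
    apply hrQ
    rw [← hQ'c]
    exact h'
  have hP : Φ.P (Localization.AtPrime Q') := h Q' (fun h1 => (Ideal.IsPrime.ne_top inferInstance)
    ((Ideal.eq_top_iff_one _).mpr h1))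
  have := Φ.of_flat_away B B' r Q' hrQ' hP
  exact Φ.congr _ _ hQ'c this

/-- S9255 -/
theorem exists_open_regLocus_of_injective_finiteType (R S : Type u) [CommRing R]
    [IsDomain R] [IsNoetherianRing R] [CommRing S] [IsDomain S] [Algebra R S] [Algebra.FiniteType R S]
    (hinj : Function.Injective (algebraMap R S))
    (hS : ∃ U : Set (PrimeSpectrum S), IsOpen U ∧ U.Nonempty ∧ U ⊆ EGA4.regLocus S) :
    ∃ U : Set (PrimeSpectrum R), IsOpen U ∧ U.Nonempty ∧ U ⊆ EGA4.regLocus R := by
  obtain ⟨U, hU, hne, hreg⟩ := hS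
  obtain ⟨g, hg0, hg⟩ := exists_regOn_of_open U hU hne hreg
  set S' := Localization.Away g
  have hle : Submonoid.powers g ≤ nonZeroDivisors S :=
    powers_le_nonZeroDivisors_of_noZeroDivisors hg0
  haveI : IsDomain S' := IsLocalization.isDomain_of_le_nonZeroDivisors S' hle
  haveI : Algebra.FiniteType S S' := IsLocalization.finiteType_of_monoid_fg (Submonoid.powers g) S'
  haveI : Algebra.FiniteType R S' := Algebra.FiniteType.trans (R := R) (S := S) (A := S')
    inferInstance inferInstance
  have hinj' : Function.Injective (algebraMap R S') := by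
    rw [IsScalarTower.algebraMap_eq R S S']
    exact (IsLocalization.injective S' hle).comp hinj
  have h1 : regProp.On S' 1 := by
    intro Q' _ _
    apply regProp.localization_of_comap (Submonoid.powers g) S' Q'
    apply hg
    intro hgQ
    have : IsUnit (algebraMap S S' g) := IsLocalization.Away.algebraMap_isUnit g
    exact (Ideal.IsPrime.ne_top ‹Q'.IsPrime›) (Ideal.eq_top_of_isUnit_mem _ hgQ this)
  obtain ⟨r, hr0, hr⟩ := regProp.on_descent_finiteType R S' hinj' h1
  haveI hbotp : (⊥ : Ideal R).IsPrime := Ideal.isPrime_bot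
  refine ⟨PrimeSpectrum.basicOpen r, (PrimeSpectrum.basicOpen r).isOpen, ⟨⟨⊥, hbotp⟩, hr0⟩, ?_⟩
  intro q hq
  exact hr q.asIdeal hq

end Groth.Agent.H8.J2
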