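import Mathlib
import Groth.Prelude.Def_EGA4b

/-!
# J-2 schemes: affine-local characterisations (helper8; S12460)
-/

set_option autoImplicit false
universe u
open CategoryTheory AlgebraicGeometry TopologicalSpace

namespace Groth.Agent.H8.J2.SchemeJ2

/-- regularity of the stalk at a point of an affine open -/
theorem isRegularLocalRing_stalk_fromSpec_iff {Y : Scheme.{u}} {V : Y.Opens} (hV : IsAffineOpen V)
    (p : PrimeSpectrum Γ(Y, V)) :
    IsRegularLocalRing (Y.presheaf.stalk (hV.fromSpec p)) ↔ p ∈ EGA4.regLocus Γ(Y, V) := by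
  have hp : hV.fromSpec p ∈ V := by
    have h1 := Set.mem_range_self (f := hV.fromSpec) p
    rwa [hV.range_fromSpec] at h1
  letI := TopCat.Presheaf.algebra_section_stalk Y.presheaf (⟨hV.fromSpec p, hp⟩ : V)
  haveI hloc : IsLocalization.AtPrime (Y.presheaf.stalk (hV.fromSpec p)) p.asIdeal :=
    hV.isLocalization_stalk' p hp
  let e := IsLocalization.algEquiv p.asIdeal.primeCompl (Localization.AtPrime p.asIdeal)
    (Y.presheaf.stalk (hV.fromSpec p))
  constructor
  · intro h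
    haveI := h
    exact IsRegularLocalRing.of_ringEquiv e.symm.toRingEquiv
  · intro h
    haveI : IsRegularLocalRing (Localization.AtPrime p.asIdeal) := h
    exact IsRegularLocalRing.of_ringEquiv e.toRingEquiv

theorem isOpen_regular_inter {Y : Scheme.{u}} {V : Y.Opens} (hV : IsAffineOpen V)
    (h : IsOpen (EGA4.regLocus Γ(Y, V))) :
    IsOpen {y : Y | y ∈ V ∧ IsRegularLocalRing (Y.presheaf.stalk y)} := by
  have heq : {y : Y | y ∈ V ∧ IsRegularLocalRing (Y.presheaf.stalk y)} =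
      hV.fromSpec '' (EGA4.regLocus Γ(Y, V)) := by
    ext y
    constructor
    · rintro ⟨hy, hreg⟩
      obtain ⟨p, rfl⟩ : ∃ p, hV.fromSpec p = y := ⟨_, hV.fromSpec_primeIdealOf ⟨y, hy⟩⟩
      exact ⟨p, (isRegularLocalRing_stalk_fromSpec_iff hV p).mp hreg, rfl⟩
    · rintro ⟨p, hp, rfl⟩
      refine ⟨?_, (isRegularLocalRing_stalk_fromSpec_iff hV p).mpr hp⟩
      have h1 := Set.mem_range_self (f := hV.fromSpec) p
      rwa [hV.range_fromSpec] at h1
  rw [heq]
  exact hV.fromSpec.isOpenEmbedding.isOpenMap _ h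

theorem regLocus_eq (S : Type u) [CommRing S] :
    EGA4.regLocus S =
      {y : PrimeSpectrum S | IsRegularLocalRing ((Spec (CommRingCat.of S)).presheaf.stalk y)} := by
  ext p
  constructor
  · intro h
    haveI : IsRegularLocalRing (Localization.AtPrime p.asIdeal) := h
    exact IsRegularLocalRing.of_ringEquiv (StructureSheaf.stalkIso S p).toRingEquiv
  · intro h
    haveI : IsRegularLocalRing
        ↑((structurePresheafInCommRingCat S).stalk p) := h
    exact IsRegularLocalRing.of_ringEquiv (StructureSheaf.stalkIso S p).symm.toRingEquiv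

variable (X : Scheme.{u})

theorem A_to_B
    (hA : ∀ (Y : Scheme.{u}) (g : Y ⟶ X), LocallyOfFiniteType g →
      IsOpen {y : Y | IsRegularLocalRing (Y.presheaf.stalk y)})
    (U : X.affineOpens) : EGA4.IsJ2 Γ(X, U) := by
  intro S _ _ hS
  have hft : (algebraMap Γ(X, U) S).FiniteType := RingHom.finiteType_algebraMap.mpr hS
  haveI : LocallyOfFiniteType (Spec.map (CommRingCat.ofHom (algebraMap Γ(X, U) S))) :=
    (HasRingHomProperty.Spec_iff (P := @LocallyOfFiniteType)).mpr hft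
  have h1 := hA (Spec (CommRingCat.of S))
    (Spec.map (CommRingCat.ofHom (algebraMap Γ(X, U) S)) ≫ U.2.fromSpec) inferInstance
  rw [regLocus_eq]
  exact h1

theorem C_to_A
    (hC : ∀ x : X, ∃ U : X.affineOpens, x ∈ (U : X.Opens) ∧ EGA4.IsJ2 Γ(X, U))
    (Y : Scheme.{u}) (g : Y ⟶ X) (hg : LocallyOfFiniteType g) :
    IsOpen {y : Y | IsRegularLocalRing (Y.presheaf.stalk y)} := by
  rw [isOpen_iff_forall_mem_open]
  intro y hy
  obtain ⟨U, hxU, hJ⟩ := hC (g y)
  obtain ⟨_, ⟨V, hV, rfl⟩, hyV, hVU⟩ := Y.isBasis_affineOpens.exists_subset_of_mem_open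
    (show y ∈ (g ⁻¹ᵁ (U : X.Opens) : Set Y) from hxU) (g ⁻¹ᵁ (U : X.Opens)).2
  have hft := g.finiteType_appLE U.2 hV hVU
  letI := (g.appLE U V hVU).hom.toAlgebra
  have hft' : Algebra.FiniteType Γ(X, U) Γ(Y, V) := hft
  have hopen := hJ Γ(Y, V) hft'
  refine ⟨{y : Y | y ∈ V ∧ IsRegularLocalRing (Y.presheaf.stalk y)}, fun z hz => hz.2,
    isOpen_regular_inter hV hopen, hyV, hy⟩

theorem main :
    ((∀ (Y : Scheme.{u}) (g : Y ⟶ X), LocallyOfFiniteType g →
        IsOpen {y : Y | IsRegularLocalRing (Y.presheaf.stalk y)}) ↔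
      ∀ U : X.affineOpens, EGA4.IsJ2 Γ(X, U)) ∧
    ((∀ (Y : Scheme.{u}) (g : Y ⟶ X), LocallyOfFiniteType g →
        IsOpen {y : Y | IsRegularLocalRing (Y.presheaf.stalk y)}) ↔
      ∀ x : X, ∃ U : X.affineOpens, x ∈ (U : X.Opens) ∧ EGA4.IsJ2 Γ(X, U)) := by
  have hBC : (∀ U : X.affineOpens, EGA4.IsJ2 Γ(X, U)) →
      ∀ x : X, ∃ U : X.affineOpens, x ∈ (U : X.Opens) ∧ EGA4.IsJ2 Γ(X, U) := by
    intro hB x
    obtain ⟨W, hW, hxW, -⟩ := exists_isAffineOpen_mem_and_subset (x := x) (U := ⊤) trivial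
    exact ⟨⟨W, hW⟩, hxW, hB ⟨W, hW⟩⟩
  refine ⟨⟨fun hA U => A_to_B X hA U, fun hB Y g hg => C_to_A X (hBC hB) Y g hg⟩,
    ⟨fun hA => hBC (fun U => A_to_B X hA U), fun hC Y g hg => C_to_A X hC Y g hg⟩⟩

end Groth.Agent.H8.J2.SchemeJ2
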